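import Cfsg.Agent.UnipotentForms.Existence
import Cfsg.Agent.Forms.SymplecticBasis
import Cfsg.Agent.Forms.Symplectic

/-!
From invariant alternating matrices to the symplectic group; invariant matrices of quadratic forms.
-/

set_option autoImplicit false

namespace CfsgLib.UnipotentForms

open Finset Matrix CfsgLib.UnipotentJordan

variable {F : Type*} [Field F]

theorem exists_congr_J {ι : Type*} [Fintype ι] [DecidableEq ι] {H : Matrix ι ι F} (hH : IsForm (-1 : F) H)
    {m : ℕ} (hm : Fintype.card ι = 2 * m) :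
    ∃ (e : ι ≃ Fin m ⊕ Fin m) (P : Matrix (Fin m ⊕ Fin m) (Fin m ⊕ Fin m) F), IsUnit P ∧
      Pᵀ * Matrix.reindex e e H * P = Matrix.J (Fin m) F := by
  have e : ι ≃ Fin m ⊕ Fin m := Fintype.equivOfCardEq (by simp [hm]; ring)
  obtain ⟨hT, hdiag, hu⟩ := hH.reindex e
  let G := Matrix.reindex e e H
  let B : LinearMap.BilinForm F (Fin m ⊕ Fin m → F) := Matrix.toBilin' G
  have hA : B.IsAlt := fun v => by
    show Matrix.toBilin' G v v = 0
    rw [Matrix.toBilin'_apply']
    exact dotProduct_self_eq_zero (by rw [show Gᵀ = _ from hT]; simp [G]) (hdiag rfl) v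
  have hB : B.Nondegenerate :=
    LinearMap.BilinForm.nondegenerate_toBilin'_iff_det_ne_zero.2 ((Matrix.isUnit_iff_isUnit_det _).1 hu).ne_zero
  obtain ⟨m', b, h1, h2, h3⟩ := Forms.exists_symplectic_basis_nondeg B hA hB
  have hmm : m' = m := by
    have := Module.finrank_eq_card_basis b
    rw [Module.finrank_pi] at this
    simp at this
    omega
  subst hmm
  let b' := b.reindex (Equiv.sumComm _ _)
  let P : Matrix (Fin m' ⊕ Fin m') (Fin m' ⊕ Fin m') F := Matrix.of fun i j => b' j i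
  refine ⟨e, P, ?_, ?_⟩
  · have hP : P = (Pi.basisFun F _).toMatrix b' := by
      ext i j; simp [P, Module.Basis.toMatrix_apply]
    rw [hP]
    haveI := (Pi.basisFun F (Fin m' ⊕ Fin m')).invertibleToMatrix b'
    exact isUnit_of_invertible _
  · have hskew : ∀ x y, B x y = -B y x := fun x y => (LinearMap.IsAlt.neg hA y x).symm
    ext i j
    have hval : (Pᵀ * G * P) i j = B (b' i) (b' j) := by
      simp only [B]
      rw [Matrix.toBilin'_apply', mul_assoc, Matrix.mul_apply]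
      simp [dotProduct, Matrix.mulVec, Matrix.mul_apply, P]
    rw [hval]
    rcases i with i | i <;> rcases j with j | j <;> simp only [b', Module.Basis.reindex_apply,
      Equiv.sumComm_symm, Equiv.sumComm_apply, Sum.swap_inl, Sum.swap_inr, Matrix.J]
    · rw [Matrix.fromBlocks_apply₁₁, h3]; rfl
    · rw [Matrix.fromBlocks_apply₁₂, hskew, h1, Matrix.neg_apply, Matrix.one_apply]
      simp [eq_comm]
    · rw [Matrix.fromBlocks_apply₂₁, h1, Matrix.one_apply]
    · rw [Matrix.fromBlocks_apply₂₂, h2]; rfl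

/-- An admissible type occurs in the symplectic group. -/
theorem exists_sp_of_count {m t : ℕ} {d : Fin t → ℕ} (hd : ∀ k, 1 ≤ d k) (hsum : ∑ k, d k = 2 * m)
    (heven : ∀ j : ℕ, Odd j → Even (Finset.univ.filter fun k => d k = j).card) :
    ∃ e : JI d ≃ Fin m ⊕ Fin m, ∃ A : Matrix.symplecticGroup (Fin m) F,
      IsConj (Matrix.reindex e e (Cfsg.jordanTypeMatrix d F)) (A : Matrix (Fin m ⊕ Fin m) (Fin m ⊕ Fin m) F) := by
  classical
  have hocc : Occ F (-1 : F) ((Finset.univ : Finset (Fin t)).val.map d) := by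
    refine occ_of_even (by ring) (fun j => Even j) (fun j hj h1 => ?_) _ (fun j hj => ?_) fun j hj => ?_
    · obtain ⟨k, rfl⟩ := hj
      rw [← two_mul]
      exact occ_single_alt (by omega)
    · obtain ⟨k, -, rfl⟩ := Multiset.mem_map.1 hj
      exact hd k
    · have := heven j (Nat.not_even_iff_odd.1 hj)
      rw [Multiset.count_map]
      simpa [eq_comm, Finset.filter_val, Finset.card_def] using this
  obtain ⟨H, hH, hinv⟩ := exists_form_of_occ hd hocc
  obtain ⟨e, P, hP, hPJ⟩ := exists_congr_J hH (m := m) (by simpa using hsum)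
  obtain ⟨P, rfl⟩ := hP
  set J := Matrix.reindex e e (Cfsg.jordanTypeMatrix d F)
  have hJ : Jᵀ * Matrix.reindex e e H * J = Matrix.reindex e e H :=
    isometry_reindex e (by rw [jordanTypeMatrix_eq]; exact hinv)
  let Pi' : Matrix (Fin m ⊕ Fin m) (Fin m ⊕ Fin m) F := ((P⁻¹ : (Matrix (Fin m ⊕ Fin m) (Fin m ⊕ Fin m) F)ˣ) : _)
  have hmem : Pi' * J * (P : Matrix (Fin m ⊕ Fin m) (Fin m ⊕ Fin m) F) ∈ Matrix.symplecticGroup (Fin m) F := by
    rw [SymplecticGroup.mem_iff', ← hPJ]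
    have h1 : (P : Matrix (Fin m ⊕ Fin m) (Fin m ⊕ Fin m) F) * Pi' = 1 := P.mul_inv
    have h2 : Pi'ᵀ * (P : Matrix (Fin m ⊕ Fin m) (Fin m ⊕ Fin m) F)ᵀ = 1 := by
      rw [← Matrix.transpose_mul, h1, Matrix.transpose_one]
    rw [Matrix.transpose_mul, Matrix.transpose_mul]
    calc (P : Matrix (Fin m ⊕ Fin m) (Fin m ⊕ Fin m) F)ᵀ * (Jᵀ * Pi'ᵀ) *
          ((P : Matrix (Fin m ⊕ Fin m) (Fin m ⊕ Fin m) F)ᵀ * Matrix.reindex e e H * P) *
          (Pi' * J * P)
        = (P : Matrix (Fin m ⊕ Fin m) (Fin m ⊕ Fin m) F)ᵀ * Jᵀ *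
            (Pi'ᵀ * (P : Matrix (Fin m ⊕ Fin m) (Fin m ⊕ Fin m) F)ᵀ) * Matrix.reindex e e H *
            ((P : Matrix (Fin m ⊕ Fin m) (Fin m ⊕ Fin m) F) * Pi') * J * P := by simp only [mul_assoc]
      _ = (P : Matrix (Fin m ⊕ Fin m) (Fin m ⊕ Fin m) F)ᵀ * (Jᵀ * Matrix.reindex e e H * J) * P := by
          rw [h1, h2]; simp [mul_assoc]
      _ = _ := by rw [hJ]
  refine ⟨e, ⟨_, hmem⟩, P⁻¹, ?_⟩
  show Pi' * J = Pi' * J * (P : Matrix (Fin m ⊕ Fin m) (Fin m ⊕ Fin m) F) * Pi'
  rw [mul_assoc _ (P : Matrix (Fin m ⊕ Fin m) (Fin m ⊕ Fin m) F), P.mul_inv, mul_one]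

/-- The matrix of the polar form of an invariant quadratic form. -/
theorem exists_polar_form {n : ℕ} (Q : QuadraticForm F (Fin n → F))
    (hQ : (QuadraticMap.polarBilin Q).Nondegenerate) (M : Matrix (Fin n) (Fin n) F)
    (hM : ∀ v, Q (M *ᵥ v) = Q v) :
    ∃ H : Matrix (Fin n) (Fin n) F, Hᵀ = H ∧ IsUnit H ∧ (∀ p, H p p = 2 * Q (Pi.single p 1)) ∧
      Mᵀ * H * M = H := by
  let H := LinearMap.BilinForm.toMatrix' (QuadraticMap.polarBilin Q)
  have hval : ∀ i j, H i j = QuadraticMap.polar Q (Pi.single i 1) (Pi.single j 1) := fun i j => by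
    simp [H, QuadraticMap.polarBilin_apply_apply]
  refine ⟨H, ?_, ?_, fun p => ?_, ?_⟩
  · ext i j; rw [Matrix.transpose_apply, hval, hval, QuadraticMap.polar_comm]
  · rw [Matrix.isUnit_iff_isUnit_det, isUnit_iff_ne_zero, ← LinearMap.BilinForm.nondegenerate_toBilin'_iff_det_ne_zero]
    simpa [H] using hQ
  · rw [hval, QuadraticMap.polar_self]; simp
  · apply Matrix.toBilin'.injective
    refine LinearMap.ext fun u => LinearMap.ext fun v => ?_
    have hB : ∀ x y, Matrix.toBilin' H x y = QuadraticMap.polar Q x y := fun x y => by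
      simp [H, Matrix.toBilin'_toMatrix', QuadraticMap.polarBilin_apply_apply]
    have hl : Matrix.toBilin' (Mᵀ * H * M) u v = Matrix.toBilin' H (M *ᵥ u) (M *ᵥ v) := by
      rw [Matrix.toBilin'_apply', Matrix.toBilin'_apply', mul_assoc, ← Matrix.mulVec_mulVec,
        ← Matrix.mulVec_mulVec, Matrix.dotProduct_mulVec, Matrix.vecMul_transpose]
    rw [hl, hB, hB]
    simp only [QuadraticMap.polar, ← Matrix.mulVec_add, hM]

end CfsgLib.UnipotentForms
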