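import Cfsg.Agent.UnipotentForms.BlockDiagonal

/-!
Invariant alternating forms of a Jordan type in odd characteristic: their classification by the square
classes attached to the even block sizes, and the dictionary with symplectic unipotent elements.
-/

set_option autoImplicit false

namespace CfsgLib.UnipotentForms

open Finset Matrix CfsgLib.UnipotentJordan

variable {F : Type*} [Field F]

theorem isForm_neg_one (h2 : (2 : F) ≠ 0) {ι : Type*} [Fintype ι] [DecidableEq ι] {H : Matrix ι ι F}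
    (hT : Hᵀ = -H) (hu : IsUnit H) : IsForm (-1 : F) H := by
  refine ⟨by rw [hT]; simp, fun _ p => ?_, hu⟩
  have := congrFun (congrFun hT p) p
  simp only [Matrix.transpose_apply, Matrix.neg_apply] at this
  exact (mul_eq_zero.1 (show (2 : F) * H p p = 0 by linear_combination this)).resolve_left h2

theorem transpose_of_isForm {ι : Type*} [Fintype ι] [DecidableEq ι] {H : Matrix ι ι F}
    (h : IsForm (-1 : F) H) : Hᵀ = -H := by
  rw [h.1]; simp

theorem isForm_J (m : ℕ) : IsForm (-1 : F) (Matrix.J (Fin m) F) := by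
  refine ⟨by rw [Matrix.J_transpose]; simp, fun _ p => ?_, ?_⟩
  · rcases p with p | p <;> simp [Matrix.J]
  · exact isUnit_iff_exists.2 ⟨-Matrix.J (Fin m) F, by simp [Matrix.J_squared], by simp [Matrix.J_squared]⟩

theorem even_card_of_alt (h2 : (2 : F) ≠ 0) {ι : Type*} [Fintype ι] [DecidableEq ι] {H : Matrix ι ι F}
    (hT : Hᵀ = -H) (hu : IsUnit H) : Even (Fintype.card ι) := by
  have hd := ((Matrix.isUnit_iff_isUnit_det _).1 hu).ne_zero
  have h := congrArg Matrix.det hT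
  rw [Matrix.det_transpose, Matrix.det_neg] at h
  rcases Nat.even_or_odd (Fintype.card ι) with he | ho
  · exact he
  · rw [ho.neg_one_pow] at h
    exact absurd (show (2 : F) * H.det = 0 by linear_combination h) (mul_ne_zero h2 hd)

/-- Alternating forms on the same space are congruent. -/
theorem exists_congr_alt (h2 : (2 : F) ≠ 0) {ι : Type*} [Fintype ι] [DecidableEq ι] {A B : Matrix ι ι F}
    (hA : IsForm (-1 : F) A) (hB : IsForm (-1 : F) B) : ∃ N, IsUnit N ∧ Nᵀ * A * N = B := by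
  obtain ⟨m, hm⟩ := even_card_of_alt h2 (transpose_of_isForm hA) hA.2.2
  rw [← two_mul] at hm
  obtain ⟨e₁, P₁, hP₁, h₁⟩ := exists_congr_J hA hm
  obtain ⟨e₂, P₂, hP₂, h₂⟩ := exists_congr_J hB hm
  obtain ⟨u, rfl⟩ := hP₂
  set V : Matrix (Fin m ⊕ Fin m) (Fin m ⊕ Fin m) F :=
    ((u⁻¹ : (Matrix (Fin m ⊕ Fin m) (Fin m ⊕ Fin m) F)ˣ) : Matrix (Fin m ⊕ Fin m) (Fin m ⊕ Fin m) F) with hV
  set X := P₁ * V with hX
  have hXB : Xᵀ * A.submatrix e₁.symm e₁.symm * X = B.submatrix e₂.symm e₂.symm := by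
    have hu1 : (u : Matrix (Fin m ⊕ Fin m) (Fin m ⊕ Fin m) F) * V = 1 := u.mul_inv
    have hu2 : Vᵀ * (u : Matrix (Fin m ⊕ Fin m) (Fin m ⊕ Fin m) F)ᵀ = 1 := by
      rw [← Matrix.transpose_mul, hu1, Matrix.transpose_one]
    rw [Matrix.reindex_apply] at h₁ h₂
    calc Xᵀ * A.submatrix e₁.symm e₁.symm * X
        = Vᵀ * (P₁ᵀ * A.submatrix e₁.symm e₁.symm * P₁) * V := by
          rw [hX, Matrix.transpose_mul]; simp only [mul_assoc]
      _ = Vᵀ * ((u : Matrix (Fin m ⊕ Fin m) (Fin m ⊕ Fin m) F)ᵀ * B.submatrix e₂.symm e₂.symm *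
            (u : Matrix (Fin m ⊕ Fin m) (Fin m ⊕ Fin m) F)) * V := by rw [h₁, h₂]
      _ = (Vᵀ * (u : Matrix (Fin m ⊕ Fin m) (Fin m ⊕ Fin m) F)ᵀ) * B.submatrix e₂.symm e₂.symm *
            ((u : Matrix (Fin m ⊕ Fin m) (Fin m ⊕ Fin m) F) * V) := by simp only [mul_assoc]
      _ = _ := by rw [hu1, hu2, one_mul, mul_one]
  refine ⟨X.submatrix e₁ e₂, (Matrix.isUnit_submatrix_equiv _ _).2 (hP₁.mul (u⁻¹).isUnit), ?_⟩
  have := congrArg (fun M => M.submatrix e₂ e₂) hXB
  simp only [← Matrix.submatrix_mul_equiv _ _ _ e₁, Matrix.submatrix_submatrix, Equiv.symm_comp_self,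
    Matrix.submatrix_id_id] at this
  rwa [Matrix.transpose_submatrix]

/-- Symmetric forms with determinants in the same square class are congruent. -/
theorem exists_congr_symm [Fintype F] (h2 : (2 : F) ≠ 0) {ι : Type*} [Fintype ι] [DecidableEq ι]
    {A B : Matrix ι ι F} (hAT : Aᵀ = A) (hBT : Bᵀ = B) (hA : IsUnit A) (hB : IsUnit B)
    (hsq : IsSquare (A.det * B.det)) : ∃ N, IsUnit N ∧ Nᵀ * A * N = B := by
  classical
  let e := Fintype.equivFin ι
  let Q : Matrix ι ι F → QuadraticForm F (Fin (Fintype.card ι) → F) := fun M =>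
    LinearMap.BilinMap.toQuadraticMap (Matrix.toLinearMap₂' F (M.submatrix e.symm e.symm))
  have hgram : ∀ M : Matrix ι ι F, Mᵀ = M → FormDiscr.gram (Q M) = (2 : F) • M.submatrix e.symm e.symm := by
    intro M hM
    ext i j
    simp only [FormDiscr.gram, Q, Matrix.of_apply, LinearMap.BilinMap.polar_toQuadraticMap,
      Matrix.toLinearMap₂'_apply', Matrix.smul_apply, smul_eq_mul]
    have := congrFun (congrFun hM (e.symm i)) (e.symm j)
    simp only [Matrix.transpose_apply] at this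
    simp [Matrix.mulVec_single_one, this]
    ring
  have hnd : ∀ M : Matrix ι ι F, Mᵀ = M → IsUnit M → (Q M).polarBilin.Nondegenerate := by
    intro M hM hu
    have h : FormDiscr.gram (Q M) = LinearMap.toMatrix₂' F (Q M).polarBilin := FormDiscr.gram_eq _
    rw [← Matrix.toLinearMap₂'_toMatrix' (R := F) (Q M).polarBilin, ← h, hgram M hM]
    refine LinearMap.BilinForm.nondegenerate_toBilin'_iff_det_ne_zero.2 ?_
    rw [Matrix.det_smul, Matrix.det_submatrix_equiv_self]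
    exact mul_ne_zero (pow_ne_zero _ h2) ((Matrix.isUnit_iff_isUnit_det _).1 hu).ne_zero
  obtain ⟨g, hg⟩ := (FormDiscr.equivalent_iff h2 (Q B) (Q A) (hnd B hBT hB) (hnd A hAT hA)).2 (by
    obtain ⟨z, hz⟩ := hsq
    refine ⟨(2 : F) ^ Fintype.card ι * z, ?_⟩
    rw [hgram B hBT, hgram A hAT, Matrix.det_smul, Matrix.det_smul, Matrix.det_submatrix_equiv_self,
      Matrix.det_submatrix_equiv_self, Fintype.card_fin]
    linear_combination ((2 : F) ^ Fintype.card ι) ^ 2 * hz)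
  set P := LinearMap.toMatrix' g.toLinearMap with hP
  have hpol : (Q A).polarBilin.compl₁₂ g.toLinearMap g.toLinearMap = (Q B).polarBilin := by
    refine LinearMap.ext₂ fun x y => ?_
    simp [QuadraticMap.polar, ← map_add, hg]
  have hmat := congrArg (LinearMap.toMatrix₂' F) hpol
  rw [LinearMap.toMatrix₂'_compl₁₂, ← FormDiscr.gram_eq, ← FormDiscr.gram_eq, hgram A hAT, hgram B hBT,
    ← hP, Matrix.mul_smul, Matrix.smul_mul] at hmat
  have hmat' : Pᵀ * A.submatrix e.symm e.symm * P = B.submatrix e.symm e.symm :=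
    smul_right_injective _ h2 hmat
  refine ⟨P.submatrix e e, (Matrix.isUnit_submatrix_equiv _ _).2 ?_, ?_⟩
  · rw [Matrix.isUnit_iff_isUnit_det, hP, LinearMap.det_toMatrix']
    exact g.isUnit_det'
  · have := congrArg (fun M => M.submatrix e e) hmat'
    simp only [← Matrix.submatrix_mul_equiv _ _ _ e, Matrix.submatrix_submatrix, Equiv.symm_comp_self,
      Matrix.submatrix_id_id] at this
    rwa [Matrix.transpose_submatrix]

theorem isSquare_mul_of_iff [Fintype F] {a b : F} (ha : a ≠ 0) (hb : b ≠ 0)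
    (h : IsSquare a ↔ IsSquare b) : IsSquare (a * b) := by
  classical
  by_cases hs : IsSquare a
  · exact hs.mul (h.1 hs)
  · have hs' : ¬ IsSquare b := fun e => hs (h.2 e)
    rw [← quadraticChar_one_iff_isSquare (mul_ne_zero ha hb), map_mul,
      quadraticChar_neg_one_iff_not_isSquare.2 hs, quadraticChar_neg_one_iff_not_isSquare.2 hs']
    norm_num

theorem isSquare_iff_of_mul {a b : F} (ha : a ≠ 0) (h : IsSquare (a * b)) :
    IsSquare a → IsSquare b := by
  intro hs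
  have := h.div hs
  rwa [mul_div_cancel_left₀ _ ha] at this

variable {t : ℕ} {d : Fin t → ℕ}

/-- An invariant alternating form. -/
def IsInv (d : Fin t → ℕ) (H : Matrix (JI d) (JI d) F) : Prop :=
  IsForm (-1 : F) H ∧ (1 + shiftMat d F)ᵀ * H * (1 + shiftMat d F) = H

theorem invariant_congr {c H : Matrix (JI d) (JI d) F} (hc : c ∈ commutant d F)
    (h : (1 + shiftMat d F)ᵀ * H * (1 + shiftMat d F) = H) :
    (1 + shiftMat d F)ᵀ * (cᵀ * H * c) * (1 + shiftMat d F) = cᵀ * H * c := by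
  set A := 1 + shiftMat d F with hA
  have hcA : c * A = A * c := by
    rw [hA, mul_add, add_mul, mul_one, one_mul, mem_commutant_iff.1 hc]
  calc Aᵀ * (cᵀ * H * c) * A = (c * A)ᵀ * H * (c * A) := by
        rw [Matrix.transpose_mul]; simp only [mul_assoc]
    _ = cᵀ * (Aᵀ * H * A) * c := by rw [hcA, Matrix.transpose_mul]; simp only [mul_assoc]
    _ = _ := by rw [h]

theorem IsInv.congr {H : Matrix (JI d) (JI d) F} (h : IsInv d H) {c : Matrix (JI d) (JI d) F}
    (hc : c ∈ commutant d F) (hu : IsUnit c) : IsInv d (cᵀ * H * c) :=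
  ⟨h.1.congr hu, invariant_congr hc h.2⟩

theorem comp_bd_transpose (hd : ∀ k, 1 ≤ d k) {H : Matrix (JI d) (JI d) F} (h : IsInv d H) (j : ℕ) :
    (comp d (bd d H) j)ᵀ = (-1 : F) ^ j • comp d (bd d H) j := by
  ext ⟨l, hl⟩ ⟨k, hk⟩
  simp only [comp, Matrix.transpose_apply, Matrix.submatrix_apply, Matrix.smul_apply, smul_eq_mul]
  rw [bd_symm h.2 (transpose_of_isForm h.1) hd l k, hl]

theorem isUnit_comp_bd [Finite F] (hd : ∀ k, 1 ≤ d k) {H : Matrix (JI d) (JI d) F} (h : IsInv d H) (j : ℕ) :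
    IsUnit (comp d (bd d H) j) :=
  isUnit_comp (bd_mem H) (isUnit_bd h.2 (transpose_of_isForm h.1) hd h.1.2.2) j

theorem even_mult [Finite F] (h2 : (2 : F) ≠ 0) (hd : ∀ k, 1 ≤ d k) {H : Matrix (JI d) (JI d) F}
    (h : IsInv d H) {j : ℕ} (hj : Odd j) : Even (Fintype.card {k // d k = j}) :=
  even_card_of_alt h2 (by rw [comp_bd_transpose hd h, hj.neg_one_pow]; simp) (isUnit_comp_bd hd h j)

/-- Congruence under the commutant is decided by the square classes at even block sizes. -/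
theorem exists_congr_of_isSquare [Fintype F] (h2 : (2 : F) ≠ 0) (hd : ∀ k, 1 ≤ d k)
    {H G : Matrix (JI d) (JI d) F} (hH : IsInv d H) (hG : IsInv d G)
    (hsq : ∀ j, Even j → IsSquare ((comp d (bd d H) j).det * (comp d (bd d G) j).det)) :
    ∃ c ∈ commutant d F, IsUnit c ∧ cᵀ * H * c = G := by
  classical
  have hN : ∀ j, ∃ N, IsUnit N ∧ Nᵀ * comp d (bd d H) j * N = comp d (bd d G) j := by
    intro j
    rcases Nat.even_or_odd j with he | ho
    · exact exists_congr_symm h2 (by rw [comp_bd_transpose hd hH, he.neg_one_pow, one_smul])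
        (by rw [comp_bd_transpose hd hG, he.neg_one_pow, one_smul]) (isUnit_comp_bd hd hH j)
        (isUnit_comp_bd hd hG j) (hsq j he)
    · exact exists_congr_alt h2
        (isForm_neg_one h2 (by rw [comp_bd_transpose hd hH, ho.neg_one_pow]; simp) (isUnit_comp_bd hd hH j))
        (isForm_neg_one h2 (by rw [comp_bd_transpose hd hG, ho.neg_one_pow]; simp) (isUnit_comp_bd hd hG j))
  choose N hNu hN using hN
  set M := glue d N
  have hM : M ∈ blk d F := glue_mem N
  have hMu : IsUnit (lift d M) := by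
    obtain ⟨u, hu⟩ := subring_isUnit (blk d F) (x := ⟨M, hM⟩) (isUnit_glue hNu)
    have h1 : (u : blk d F).1 = M := congrArg Subtype.val hu
    refine isUnit_iff_exists.2 ⟨lift d ((u⁻¹ : (blk d F)ˣ) : blk d F).1, ?_, ?_⟩
    · rw [← lift_mul hM, ← h1, ← Subring.coe_mul, Units.mul_inv]; exact lift_one
    · rw [← lift_mul ((u⁻¹ : (blk d F)ˣ) : blk d F).2, ← h1, ← Subring.coe_mul, Units.inv_mul]; exact lift_one
  have hH' := hH.congr lift_mem hMu
  have hbd : bd d ((lift d M)ᵀ * H * lift d M) = bd d G := by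
    rw [bd_congr hH.2 (transpose_of_isForm hH.1) hd lift_mem, lead_lift hd hM]
    refine blk_ext (mul_mem (mul_mem (transpose_mem_blk hM) (bd_mem H)) hM) (bd_mem G) fun j => ?_
    rw [comp_mul (mul_mem (transpose_mem_blk hM) (bd_mem H)), comp_mul (transpose_mem_blk hM),
      comp_transpose, comp_glue, hN]
  obtain ⟨c, hc, hcG⟩ := exists_congr_of_bd_eq hH'.2 (transpose_of_isForm hH'.1) h2 hd hH'.1.2.2 hG.2
    (transpose_of_isForm hG.1) hbd
  refine ⟨lift d M * c, mul_mem lift_mem hc, hMu.mul ?_, ?_⟩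
  · have := hG.1.2.2
    rw [← hcG, Matrix.isUnit_iff_isUnit_det, Matrix.det_mul] at this
    rw [Matrix.isUnit_iff_isUnit_det]
    exact (IsUnit.mul_iff.1 this).2
  · rw [← hcG, Matrix.transpose_mul]; simp only [mul_assoc]

theorem isSquare_of_congr (hd : ∀ k, 1 ≤ d k) {H G : Matrix (JI d) (JI d) F} (hH : IsInv d H)
    {c : Matrix (JI d) (JI d) F} (hc : c ∈ commutant d F) (hcG : cᵀ * H * c = G) (j : ℕ) :
    IsSquare ((comp d (bd d H) j).det * (comp d (bd d G) j).det) := by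
  have hl := lead_mem c
  rw [← hcG, bd_congr hH.2 (transpose_of_isForm hH.1) hd hc,
    comp_mul (mul_mem (transpose_mem_blk hl) (bd_mem H)), comp_mul (transpose_mem_blk hl), comp_transpose,
    Matrix.det_mul, Matrix.det_mul, Matrix.det_transpose]
  exact ⟨(comp d (bd d H) j).det * (comp d (lead d c) j).det, by ring⟩

/-! ### Forms with prescribed components -/

/-- The pairing of each block with itself, symmetrical or alternating by the parity of its size. -/
def diagForm (d : Fin t → ℕ) (F : Type*) [Field F] : Matrix (JI d) (JI d) F :=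
  Matrix.of fun p r => if p.1 = r.1 then
    (-1) ^ (d p.1 + 1) * (kf (d p.1 - 1 - (p.2 : ℕ)) r.2 : F) + (kf (d p.1 - 1 - (r.2 : ℕ)) p.2 : F) else 0

theorem ent_diagForm (l k : Fin t) (a b : ℕ) (ha : a < d l) (hb : b < d k) :
    ent d (diagForm d F) l a k b = if l = k then
      (-1) ^ (d l + 1) * (kf (d l - 1 - a) b : F) + (kf (d l - 1 - b) a : F) else 0 := by
  rw [ent, dif_pos ⟨ha, hb⟩]; rfl

theorem diagForm_invariant :
    (1 + shiftMat d F)ᵀ * diagForm d F * (1 + shiftMat d F) = diagForm d F := by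
  refine invariant_of_recurrence _ fun l k a b ha hb => ?_
  by_cases hlk : l = k
  swap
  · have : ∀ a b, ent d (diagForm d F) l a k b = 0 := fun a b => by
      by_cases h : a < d l ∧ b < d k
      · rw [ent_diagForm l k a b h.1 h.2, if_neg hlk]
      · exact ent_eq_zero _ h
    simp [this]
  subst hlk
  have hval : ∀ a b, ent d (diagForm d F) l a l b =
      if a < d l ∧ b < d l then
        (-1) ^ (d l + 1) * (kf (d l - 1 - a) b : F) + (kf (d l - 1 - b) a : F) else 0 := fun a b => by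
    by_cases h : a < d l ∧ b < d l
    · rw [ent_diagForm l l a b h.1 h.2, if_pos h, if_pos rfl]
    · rw [ent_eq_zero _ h, if_neg h]
  rw [hval, hval, hval]
  by_cases ha1 : a + 1 < d l
  · by_cases hb1 : b + 1 < d l
    · rw [if_pos ⟨ha1, hb⟩, if_pos ⟨ha, hb1⟩, if_pos ⟨ha1, hb1⟩,
        show d l - 1 - a = (d l - 1 - (a + 1)) + 1 by omega,
        show d l - 1 - b = (d l - 1 - (b + 1)) + 1 by omega, kf, kf]
      push_cast
      ring
    · rw [if_pos ⟨ha1, hb⟩, if_neg (fun h => hb1 h.2), if_neg (fun h => hb1 h.2),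
        kf_eq_zero (show d l - 1 - (a + 1) < b by omega), kf_eq_zero (show d l - 1 - b < a + 1 by omega)]
      simp
  · rw [if_neg (fun h => ha1 h.1)]
    by_cases hb1 : b + 1 < d l
    · rw [if_pos ⟨ha, hb1⟩, if_neg (fun h => ha1 h.1), kf_eq_zero (show d l - 1 - a < b + 1 by omega),
        kf_eq_zero (show d l - 1 - (b + 1) < a by omega)]
      simp
    · rw [if_neg (fun h => hb1 h.2), if_neg (fun h => ha1 h.1)]
      simp

theorem bd_diagForm (hd : ∀ k, 1 ≤ d k) : bd d (diagForm d F) = (2 : F) • 1 := by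
  ext l k
  simp only [bd, corner, Matrix.of_apply, Matrix.smul_apply, Matrix.one_apply, smul_eq_mul]
  have := hd l
  have := hd k
  rw [ent_diagForm l k 0 (d k - 1) (by omega) (by omega)]
  by_cases h : l = k
  · subst h
    rw [if_pos rfl, if_pos rfl, if_pos rfl, Nat.sub_zero, Nat.sub_self, kf_self]
    simp only [kf, if_true, Int.cast_pow, Int.cast_neg, Int.cast_one]
    rw [← pow_add, Even.neg_one_pow ⟨d l, by omega⟩]
    norm_num
  · simp [h]

theorem isUnit_diagForm (h2 : (2 : F) ≠ 0) : IsUnit (diagForm d F) := by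
  rw [Matrix.isUnit_iff_isUnit_det, isUnit_iff_ne_zero]
  intro hdet
  obtain ⟨v, hv, hMv⟩ := Matrix.exists_mulVec_eq_zero_iff.2 hdet
  refine hv (funext fun r => ?_)
  suffices ∀ n (r : JI d), (r.2 : ℕ) < n → v r = 0 from this _ r (Nat.lt_succ_self _)
  intro n
  induction n with
  | zero => intro r h; omega
  | succ n ih =>
    intro r hr
    obtain ⟨k, b⟩ := r
    simp only at hr
    have hb := b.isLt
    have := congrFun hMv ⟨k, ⟨d k - 1 - b, by omega⟩⟩
    rw [Matrix.mulVec, dotProduct, Finset.sum_eq_single (⟨k, b⟩ : JI d)] at this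
    · refine (mul_eq_zero.1 this).resolve_left ?_
      simp only [diagForm, Matrix.of_apply, if_true]
      rw [show d k - 1 - (d k - 1 - (b : ℕ)) = b by omega, kf_self, kf_self]
      push_cast
      rw [← pow_add, neg_one_pow_eq_pow_mod_two (d k + 1 + (b : ℕ)), neg_one_pow_eq_pow_mod_two (d k - 1 - (b : ℕ)),
        show (d k + 1 + (b : ℕ)) % 2 = (d k - 1 - (b : ℕ)) % 2 by omega, ← two_mul]
      exact mul_ne_zero h2 (pow_ne_zero _ (neg_ne_zero.2 one_ne_zero))
    · rintro ⟨k', x⟩ _ hx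
      by_cases hk : k = k'
      swap
      · simp [diagForm, hk]
      subst hk
      rcases Nat.lt_trichotomy (x : ℕ) b with hlt | heq | hgt
      · rw [ih ⟨k, x⟩ (by simp; omega), mul_zero]
      · exact absurd (by rw [Fin.ext heq]) hx
      · have := x.isLt
        simp [diagForm, kf_eq_zero (show d k - 1 - (d k - 1 - (b : ℕ)) < x by omega),
          kf_eq_zero (show d k - 1 - (x : ℕ) < d k - 1 - b by omega)]
    · simp

theorem diagForm_mul_lift (M : Matrix (Fin t) (Fin t) F) (p r : JI d) :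
    (diagForm d F * lift d M) p r = if d p.1 = d r.1 then
      M p.1 r.1 * ((-1) ^ (d p.1 + 1) * (kf (d p.1 - 1 - (p.2 : ℕ)) r.2 : F) +
        (kf (d p.1 - 1 - (r.2 : ℕ)) p.2 : F)) else 0 := by
  obtain ⟨l, a⟩ := p
  obtain ⟨k, b⟩ := r
  rw [Matrix.mul_apply]
  by_cases h : d l = d k
  · rw [if_pos h, Finset.sum_eq_single (⟨l, ⟨b, by omega⟩⟩ : JI d)]
    · simp [diagForm, lift, h, mul_comm]
    · rintro ⟨m, x⟩ _ hx
      by_cases hm : l = m
      · subst hm
        have : (x : ℕ) ≠ b := fun e => hx (by simp [Fin.ext_iff, e])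
        simp [lift, this]
      · simp [diagForm, hm]
    · simp
  · rw [if_neg h]
    refine Finset.sum_eq_zero fun ⟨m, x⟩ _ => ?_
    by_cases hm : l = m
    · subst hm; simp [lift, h]
    · simp [diagForm, hm]

/-- Realisation of prescribed components. -/
theorem exists_inv_of_blk [Finite F] (h2 : (2 : F) ≠ 0) (hd : ∀ k, 1 ≤ d k)
    (N : (j : ℕ) → Matrix {k // d k = j} {k // d k = j} F) (hNu : ∀ j, IsUnit (N j))
    (hNT : ∀ j, (N j)ᵀ = (-1 : F) ^ j • N j) :
    ∃ H : Matrix (JI d) (JI d) F, IsInv d H ∧ ∀ j, comp d (bd d H) j = (2 : F) • N j := by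
  classical
  set M := glue d N with hMdef
  have hM : M ∈ blk d F := glue_mem N
  have hsym : ∀ l k, d l = d k → M k l = (-1) ^ d l * M l k := by
    intro l k h
    have := congrFun (congrFun (hNT (d l)) ⟨l, rfl⟩) ⟨k, h.symm⟩
    simp only [Matrix.transpose_apply, Matrix.smul_apply, smul_eq_mul, ← comp_glue (d := d) N (d l), comp,
      Matrix.submatrix_apply, ← hMdef] at this
    exact this
  have hlift : IsUnit (lift d M) := by
    obtain ⟨u, hu⟩ := subring_isUnit (blk d F) (x := ⟨M, hM⟩) (isUnit_glue hNu)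
    have h1 : (u : blk d F).1 = M := congrArg Subtype.val hu
    refine isUnit_iff_exists.2 ⟨lift d ((u⁻¹ : (blk d F)ˣ) : blk d F).1, ?_, ?_⟩
    · rw [← lift_mul hM, ← h1, ← Subring.coe_mul, Units.mul_inv]; exact lift_one
    · rw [← lift_mul ((u⁻¹ : (blk d F)ˣ) : blk d F).2, ← h1, ← Subring.coe_mul, Units.inv_mul]; exact lift_one
  have hT : (diagForm d F * lift d M)ᵀ = -(diagForm d F * lift d M) := by
    ext ⟨l, a⟩ ⟨k, b⟩
    rw [Matrix.transpose_apply, Matrix.neg_apply, diagForm_mul_lift, diagForm_mul_lift]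
    by_cases h : d l = d k
    · rw [if_pos h.symm, if_pos h]
      simp only
      rw [hsym l k h, show (-1 : F) ^ (d k + 1) = (-1) ^ (d l + 1) by rw [h], show d k - 1 = d l - 1 by rw [h], pow_succ]
      have h1 : ((-1 : F) ^ d l) * (-1) ^ d l = 1 := by rw [← mul_pow]; norm_num
      linear_combination -(M l k * (kf (d l - 1 - (b : ℕ)) a : F)) * h1
    · rw [if_neg (fun e => h e.symm), if_neg h, neg_zero]
  have hinv : (1 + shiftMat d F)ᵀ * (diagForm d F * lift d M) * (1 + shiftMat d F) =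
      diagForm d F * lift d M := by
    have hc : lift d M * (1 + shiftMat d F) = (1 + shiftMat d F) * lift d M := by
      rw [mul_add, add_mul, mul_one, one_mul, mem_commutant_iff.1 lift_mem]
    rw [← mul_assoc, mul_assoc _ (lift d M), hc, ← mul_assoc, diagForm_invariant]
  refine ⟨diagForm d F * lift d M, ⟨isForm_neg_one h2 hT ((isUnit_diagForm h2).mul hlift), hinv⟩, fun j => ?_⟩
  rw [bd_mul diagForm_invariant hd lift_mem, bd_diagForm hd, lead_lift hd hM, Matrix.smul_mul, one_mul]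
  ext a b
  simp [comp, ← comp_glue (d := d) N j, ← hMdef]

/-- Components with prescribed square classes. -/
theorem exists_inv_of_sign [Fintype F] (h2 : (2 : F) ≠ 0) (hd : ∀ k, 1 ≤ d k)
    (heven : ∀ j, Odd j → Even (Fintype.card {k // d k = j})) (f : ℕ → Bool) :
    ∃ H : Matrix (JI d) (JI d) F, IsInv d H ∧ ∀ j, Even j → Nonempty {k // d k = j} →
      (IsSquare (comp d (bd d H) j).det ↔ f j = true) := by
  classical
  obtain ⟨ν, hν⟩ := FiniteField.exists_nonsquare (F := F) fun h =>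
    h2 (by have := ringChar.Nat.cast_ringChar (R := F); rw [h] at this; exact_mod_cast this)
  have key : ∀ j, ∃ N : Matrix {k // d k = j} {k // d k = j} F, IsUnit N ∧ Nᵀ = (-1 : F) ^ j • N ∧
      (Even j → Nonempty {k // d k = j} → (IsSquare ((2 : F) • N).det ↔ f j = true)) := by
    intro j
    rcases Nat.even_or_odd j with he | ho
    · rcases isEmpty_or_nonempty {k // d k = j} with hem | hne
      · exact ⟨1, isUnit_one, Subsingleton.elim _ _, fun _ h => (hem.false h.some).elim⟩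
      · obtain ⟨o⟩ := hne
        set z : F := if f j then 1 else ν with hz
        have hν0 : ν ≠ 0 := by rintro rfl; exact hν IsSquare.zero
        have hz0 : z ≠ 0 := by rw [hz]; split_ifs <;> first | exact one_ne_zero | exact hν0
        set c := Fintype.card {k // d k = j}
        let w : {k // d k = j} → F := fun i => if i = o then z / 2 ^ c else 1
        have hprod : ∏ i, w i = z / 2 ^ c := by simp [w]
        refine ⟨Matrix.diagonal w, ?_, by rw [Matrix.diagonal_transpose, he.neg_one_pow, one_smul], fun _ _ => ?_⟩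
        · rw [Matrix.isUnit_iff_isUnit_det, Matrix.det_diagonal, hprod, isUnit_iff_ne_zero]
          exact div_ne_zero hz0 (pow_ne_zero _ h2)
        · rw [Matrix.det_smul, Matrix.det_diagonal, hprod, mul_div_cancel₀ _ (pow_ne_zero _ h2), hz]
          cases f j <;> simp [hν]
    · obtain ⟨c, hc⟩ := heven j ho
      rw [← two_mul] at hc
      let e : {k // d k = j} ≃ Fin c ⊕ Fin c := Fintype.equivOfCardEq (by simp [hc]; ring)
      have hJ := (isForm_J (F := F) c).reindex e.symm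
      exact ⟨_, hJ.2.2, by rw [transpose_of_isForm hJ, ho.neg_one_pow]; simp,
        fun he => absurd he (Nat.not_even_iff_odd.2 ho)⟩
  choose N hNu hNT hN using key
  obtain ⟨H, hH, hcomp⟩ := exists_inv_of_blk h2 hd N hNu hNT
  exact ⟨H, hH, fun j hj hne => by rw [hcomp]; exact hN j hj hne⟩

/-! ### Symplectic elements -/

/-- The symplectic element `g` carries the form `H`. -/
def Carries {m : ℕ} (e : JI d ≃ Fin m ⊕ Fin m) (g : Matrix.symplecticGroup (Fin m) F)
    (H : Matrix (JI d) (JI d) F) : Prop :=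
  ∃ Q : (Matrix (Fin m ⊕ Fin m) (Fin m ⊕ Fin m) F)ˣ,
    (Q : Matrix (Fin m ⊕ Fin m) (Fin m ⊕ Fin m) F) * Matrix.reindex e e (1 + shiftMat d F) =
        (g : Matrix (Fin m ⊕ Fin m) (Fin m ⊕ Fin m) F) * (Q : Matrix (Fin m ⊕ Fin m) (Fin m ⊕ Fin m) F) ∧
      (Q : Matrix (Fin m ⊕ Fin m) (Fin m ⊕ Fin m) F)ᵀ * Matrix.J (Fin m) F * Q = Matrix.reindex e e H

theorem exists_carries (h2 : (2 : F) ≠ 0) {m : ℕ} (e : JI d ≃ Fin m ⊕ Fin m)
    {H : Matrix (JI d) (JI d) F} (h : IsInv d H) : ∃ g, Carries e g H := by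
  obtain ⟨N, ⟨Q, rfl⟩, hN⟩ := exists_congr_alt h2 (isForm_J (F := F) m) (h.1.reindex e)
  set Jr := Matrix.reindex e e (1 + shiftMat d F) with hJr
  have hJ := isometry_reindex e h.2
  rw [← hJr, ← hN] at hJ
  have hmem : (Q : Matrix (Fin m ⊕ Fin m) (Fin m ⊕ Fin m) F) * Jr *
      ((Q⁻¹ : (Matrix (Fin m ⊕ Fin m) (Fin m ⊕ Fin m) F)ˣ) : Matrix (Fin m ⊕ Fin m) (Fin m ⊕ Fin m) F) ∈
        Matrix.symplecticGroup (Fin m) F := by
    rw [SymplecticGroup.mem_iff']
    set Qi : Matrix (Fin m ⊕ Fin m) (Fin m ⊕ Fin m) F :=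
      ((Q⁻¹ : (Matrix (Fin m ⊕ Fin m) (Fin m ⊕ Fin m) F)ˣ) : Matrix (Fin m ⊕ Fin m) (Fin m ⊕ Fin m) F)
    have h1 : (Q : Matrix (Fin m ⊕ Fin m) (Fin m ⊕ Fin m) F) * Qi = 1 := Q.mul_inv
    have h3 : Qiᵀ * (Q : Matrix (Fin m ⊕ Fin m) (Fin m ⊕ Fin m) F)ᵀ = 1 := by
      rw [← Matrix.transpose_mul, h1, Matrix.transpose_one]
    calc ((Q : Matrix (Fin m ⊕ Fin m) (Fin m ⊕ Fin m) F) * Jr * Qi)ᵀ * Matrix.J (Fin m) F *
          ((Q : Matrix (Fin m ⊕ Fin m) (Fin m ⊕ Fin m) F) * Jr * Qi)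
        = Qiᵀ * (Jrᵀ * ((Q : Matrix (Fin m ⊕ Fin m) (Fin m ⊕ Fin m) F)ᵀ * Matrix.J (Fin m) F * Q) * Jr) * Qi := by
          rw [Matrix.transpose_mul, Matrix.transpose_mul]; simp only [mul_assoc]
      _ = (Qiᵀ * (Q : Matrix (Fin m ⊕ Fin m) (Fin m ⊕ Fin m) F)ᵀ) * Matrix.J (Fin m) F *
            ((Q : Matrix (Fin m ⊕ Fin m) (Fin m ⊕ Fin m) F) * Qi) := by rw [hJ]; simp only [mul_assoc]
      _ = _ := by rw [h1, h3, one_mul, mul_one]
  refine ⟨⟨_, hmem⟩, Q, ?_, hN⟩
  simp [mul_assoc, hJr]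

theorem exists_isInv_carries {m : ℕ} (e : JI d ≃ Fin m ⊕ Fin m) (g : Matrix.symplecticGroup (Fin m) F)
    (hc : IsConj (Matrix.reindex e e (1 + shiftMat d F)) (g : Matrix (Fin m ⊕ Fin m) (Fin m ⊕ Fin m) F)) :
    ∃ H, IsInv d H ∧ Carries e g H := by
  obtain ⟨Q, hQ⟩ := hc
  have hQ' : (Q : Matrix (Fin m ⊕ Fin m) (Fin m ⊕ Fin m) F) * Matrix.reindex e e (1 + shiftMat d F) =
      (g : Matrix (Fin m ⊕ Fin m) (Fin m ⊕ Fin m) F) * (Q : Matrix (Fin m ⊕ Fin m) (Fin m ⊕ Fin m) F) := hQ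
  set K := (Q : Matrix (Fin m ⊕ Fin m) (Fin m ⊕ Fin m) F)ᵀ * Matrix.J (Fin m) F * Q with hK
  have hKe : Matrix.reindex e e (Matrix.reindex e.symm e.symm K) = K := by simp
  refine ⟨Matrix.reindex e.symm e.symm K, ⟨((isForm_J (F := F) m).congr Q.isUnit).reindex e.symm, ?_⟩,
    Q, hQ', hKe.symm⟩
  set Jr := Matrix.reindex e e (1 + shiftMat d F) with hJr
  have h : Jrᵀ * K * Jr = K := by
    calc Jrᵀ * K * Jr = ((Q : Matrix (Fin m ⊕ Fin m) (Fin m ⊕ Fin m) F) * Jr)ᵀ * Matrix.J (Fin m) F *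
          ((Q : Matrix (Fin m ⊕ Fin m) (Fin m ⊕ Fin m) F) * Jr) := by
          rw [hK, Matrix.transpose_mul]; simp only [mul_assoc]
      _ = (Q : Matrix (Fin m ⊕ Fin m) (Fin m ⊕ Fin m) F)ᵀ *
            ((g : Matrix (Fin m ⊕ Fin m) (Fin m ⊕ Fin m) F)ᵀ * Matrix.J (Fin m) F * g) * Q := by
          rw [hQ', Matrix.transpose_mul]; simp only [mul_assoc]
      _ = K := by rw [SymplecticGroup.mem_iff'.1 g.2, hK]
  have h' := isometry_reindex e.symm h
  have he : Matrix.reindex e.symm e.symm Jr = 1 + shiftMat d F := by ext i j; simp [hJr]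
  rwa [he] at h'

theorem isConj_of_congr {m : ℕ} {e : JI d ≃ Fin m ⊕ Fin m} {g g' : Matrix.symplecticGroup (Fin m) F}
    {H G : Matrix (JI d) (JI d) F} (hg : Carries e g H) (hg' : Carries e g' G)
    {c : Matrix (JI d) (JI d) F} (hc : c ∈ commutant d F) (hcG : cᵀ * H * c = G) : IsConj g' g := by
  obtain ⟨Q, hQ, hQJ⟩ := hg
  obtain ⟨R, hR, hRJ⟩ := hg'
  set C := Matrix.reindex e e c with hC
  set Jr := Matrix.reindex e e (1 + shiftMat d F) with hJr
  have hCJ : C * Jr = Jr * C := by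
    simp only [hC, hJr, ← Matrix.coe_reindexAlgEquiv F F, ← map_mul, mul_add, add_mul, mul_one, one_mul,
      mem_commutant_iff.1 hc]
  have hCC : Cᵀ * Matrix.reindex e e H * C = Matrix.reindex e e G := by
    rw [hC, Matrix.transpose_reindex, ← Matrix.coe_reindexAlgEquiv F F, ← map_mul, ← map_mul, hcG]
  set Ri : Matrix (Fin m ⊕ Fin m) (Fin m ⊕ Fin m) F :=
    ((R⁻¹ : (Matrix (Fin m ⊕ Fin m) (Fin m ⊕ Fin m) F)ˣ) : Matrix (Fin m ⊕ Fin m) (Fin m ⊕ Fin m) F)
  have hRR : (R : Matrix (Fin m ⊕ Fin m) (Fin m ⊕ Fin m) F) * Ri = 1 := R.mul_inv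
  have hRR' : Riᵀ * (R : Matrix (Fin m ⊕ Fin m) (Fin m ⊕ Fin m) F)ᵀ = 1 := by
    rw [← Matrix.transpose_mul, hRR, Matrix.transpose_one]
  have hRi : Jr * Ri = Ri * (g' : Matrix (Fin m ⊕ Fin m) (Fin m ⊕ Fin m) F) := by
    refine R.isUnit.mul_left_cancel ?_
    rw [← mul_assoc, hR, mul_assoc, hRR, mul_one, ← mul_assoc, hRR, one_mul]
  set X := (Q : Matrix (Fin m ⊕ Fin m) (Fin m ⊕ Fin m) F) * C * Ri with hX
  have hmem : X ∈ Matrix.symplecticGroup (Fin m) F := by
    rw [SymplecticGroup.mem_iff']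
    calc Xᵀ * Matrix.J (Fin m) F * X
        = Riᵀ * (Cᵀ * ((Q : Matrix (Fin m ⊕ Fin m) (Fin m ⊕ Fin m) F)ᵀ * Matrix.J (Fin m) F * Q) * C) * Ri := by
          rw [hX, Matrix.transpose_mul, Matrix.transpose_mul]; simp only [mul_assoc]
      _ = (Riᵀ * (R : Matrix (Fin m ⊕ Fin m) (Fin m ⊕ Fin m) F)ᵀ) * Matrix.J (Fin m) F *
            ((R : Matrix (Fin m ⊕ Fin m) (Fin m ⊕ Fin m) F) * Ri) := by
          rw [hQJ, hCC, ← hRJ]; simp only [mul_assoc]
      _ = _ := by rw [hRR, hRR', one_mul, mul_one]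
  refine isConj_iff.2 ⟨⟨X, hmem⟩, ?_⟩
  rw [mul_inv_eq_iff_eq_mul]
  refine Subtype.ext ?_
  show X * (g' : Matrix (Fin m ⊕ Fin m) (Fin m ⊕ Fin m) F) = (g : Matrix (Fin m ⊕ Fin m) (Fin m ⊕ Fin m) F) * X
  calc X * (g' : Matrix (Fin m ⊕ Fin m) (Fin m ⊕ Fin m) F)
      = (Q : Matrix (Fin m ⊕ Fin m) (Fin m ⊕ Fin m) F) * C * (Ri * g') := by rw [hX]; simp only [mul_assoc]
    _ = (Q : Matrix (Fin m ⊕ Fin m) (Fin m ⊕ Fin m) F) * (C * Jr) * Ri := by rw [← hRi]; simp only [mul_assoc]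
    _ = ((Q : Matrix (Fin m ⊕ Fin m) (Fin m ⊕ Fin m) F) * Jr) * (C * Ri) := by rw [hCJ]; simp only [mul_assoc]
    _ = _ := by rw [hQ, hX]; simp only [mul_assoc]

theorem congr_of_isConj {m : ℕ} {e : JI d ≃ Fin m ⊕ Fin m} {g g' : Matrix.symplecticGroup (Fin m) F}
    {H G : Matrix (JI d) (JI d) F} (hg : Carries e g H) (hg' : Carries e g' G) (h : IsConj g' g) :
    ∃ c ∈ commutant d F, cᵀ * H * c = G := by
  obtain ⟨Y, hY⟩ := isConj_iff.1 h
  rw [mul_inv_eq_iff_eq_mul] at hY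
  have hY' : (Y : Matrix (Fin m ⊕ Fin m) (Fin m ⊕ Fin m) F) * g' = (g : Matrix (Fin m ⊕ Fin m) (Fin m ⊕ Fin m) F) * Y :=
    congrArg Subtype.val hY
  obtain ⟨Q, hQ, hQJ⟩ := hg
  obtain ⟨R, hR, hRJ⟩ := hg'
  set Jr := Matrix.reindex e e (1 + shiftMat d F) with hJr
  set Qi : Matrix (Fin m ⊕ Fin m) (Fin m ⊕ Fin m) F :=
    ((Q⁻¹ : (Matrix (Fin m ⊕ Fin m) (Fin m ⊕ Fin m) F)ˣ) : Matrix (Fin m ⊕ Fin m) (Fin m ⊕ Fin m) F)
  have hQQ : (Q : Matrix (Fin m ⊕ Fin m) (Fin m ⊕ Fin m) F) * Qi = 1 := Q.mul_inv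
  set C := Qi * (Y : Matrix (Fin m ⊕ Fin m) (Fin m ⊕ Fin m) F) * R with hC
  have hQC : (Q : Matrix (Fin m ⊕ Fin m) (Fin m ⊕ Fin m) F) * C = (Y : Matrix (Fin m ⊕ Fin m) (Fin m ⊕ Fin m) F) * R := by
    rw [hC, ← mul_assoc, ← mul_assoc, hQQ, one_mul]
  have hCJ : C * Jr = Jr * C := by
    refine Q.isUnit.mul_left_cancel ?_
    rw [← mul_assoc, hQC, ← mul_assoc (Q : Matrix (Fin m ⊕ Fin m) (Fin m ⊕ Fin m) F), hQ, mul_assoc, hR,
      ← mul_assoc, hY', mul_assoc, mul_assoc, hQC]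
  have hCC : Cᵀ * Matrix.reindex e e H * C = Matrix.reindex e e G := by
    rw [← hQJ, ← hRJ]
    calc Cᵀ * ((Q : Matrix (Fin m ⊕ Fin m) (Fin m ⊕ Fin m) F)ᵀ * Matrix.J (Fin m) F * Q) * C
        = ((Q : Matrix (Fin m ⊕ Fin m) (Fin m ⊕ Fin m) F) * C)ᵀ * Matrix.J (Fin m) F *
            ((Q : Matrix (Fin m ⊕ Fin m) (Fin m ⊕ Fin m) F) * C) := by
          rw [Matrix.transpose_mul (Q : Matrix (Fin m ⊕ Fin m) (Fin m ⊕ Fin m) F) C]; simp only [mul_assoc]
      _ = (R : Matrix (Fin m ⊕ Fin m) (Fin m ⊕ Fin m) F)ᵀ *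
            ((Y : Matrix (Fin m ⊕ Fin m) (Fin m ⊕ Fin m) F)ᵀ * Matrix.J (Fin m) F * Y) * R := by
          rw [hQC, Matrix.transpose_mul]; simp only [mul_assoc]
      _ = _ := by rw [SymplecticGroup.mem_iff'.1 Y.2]
  set φ := Matrix.reindexAlgEquiv F F e.symm
  have hback : ∀ M : Matrix (JI d) (JI d) F, φ (Matrix.reindex e e M) = M := fun M => by
    ext i j; simp [φ]
  refine ⟨φ C, mem_commutant_iff.2 ?_, ?_⟩
  · have := congrArg φ hCJ
    rw [map_mul φ C Jr, map_mul φ Jr C, hJr, hback, mul_add, add_mul, mul_one, one_mul] at this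
    exact (add_left_cancel this).symm
  · have := congrArg φ hCC
    rw [map_mul, map_mul, hback, hback] at this
    rw [← this]
    congr 2

end CfsgLib.UnipotentForms
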