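import Cfsg.Agent.CharTwo.SympInvolution
import Cfsg.Agent.CharTwo.RankCriterion
import Cfsg.Agent.Forms.SymplecticOrder

/-!
The centralizer of a non-alternating involution of a symplectic group in characteristic two.
-/

set_option autoImplicit false

namespace CfsgLib.UnipotentForms.CharTwoCent

open Finset Matrix

variable (F : Type*) [Field F] (s r : ℕ)

/-- Coordinates adapted to the involution. -/
abbrev Idx : Type := (Fin s ⊕ Fin s) ⊕ (Fin r ⊕ Fin r)

/-- The adapted coordinates in terms of the standard ones. -/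
def idxEquiv : Fin (s + r) ⊕ Fin (s + r) ≃ Idx s r :=
  (Equiv.sumCongr finSumFinEquiv.symm finSumFinEquiv.symm).trans (Equiv.sumSumSumComm _ _ _ _)

/-- The alternating form. -/
def om : Matrix (Idx s r) (Idx s r) F :=
  Matrix.fromBlocks (Matrix.fromBlocks 0 1 1 0) 0 0 (Matrix.J (Fin r) F)

/-- The square zero part of the involution. -/
def nl : Matrix (Idx s r) (Idx s r) F :=
  Matrix.fromBlocks (Matrix.fromBlocks 0 1 0 0) 0 0 0

variable {F s r}

theorem reindex_J [CharP F 2] :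
    Matrix.reindex (idxEquiv s r) (idxEquiv s r) (Matrix.J (Fin (s + r)) F) = om F s r := by
  ext p q
  rcases p with (p | p) | (p | p) <;> rcases q with (q | q) | (q | q) <;>
    simp [idxEquiv, om, Matrix.J, Matrix.one_apply, Fin.ext_iff, finSumFinEquiv_apply_left,
      finSumFinEquiv_apply_right, CharTwo.neg_eq] <;> omega

theorem fromBlocks_add_self [CharP F 2] {ι : Type*} (A : Matrix ι ι F) : A + A = 0 := by
  ext i j; exact CharTwo.add_self_eq_zero _

theorem fromBlocks_add_self' [CharP F 2] {ι κ : Type*} (A : Matrix ι κ F) : A + A = 0 := by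
  ext i j; exact CharTwo.add_self_eq_zero _

theorem neg_eq_self' [CharP F 2] {ι κ : Type*} (A : Matrix ι κ F) : -A = A := by
  ext i j; exact CharTwo.neg_eq _

theorem transpose_J [CharP F 2] (r : ℕ) : (Matrix.J (Fin r) F)ᵀ = Matrix.J (Fin r) F := by
  rw [Matrix.J_transpose]; ext i j; simp [CharTwo.neg_eq]

theorem diag_congr_J [CharP F 2] {ι : Type*} [Fintype ι] (T : Matrix (Fin r ⊕ Fin r) ι F) (i : ι) :
    (Tᵀ * Matrix.J (Fin r) F * T) i i = 0 := by
  rw [Matrix.mul_assoc, Matrix.mul_apply]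
  have h : CfsgLib.CharTwo.sympBil r F (fun a => T a i) (fun a => T a i) = 0 := CfsgLib.CharTwo.sympBil_self _
  rw [CfsgLib.CharTwo.sympBil_apply] at h
  simpa [Cfsg.sympForm, dotProduct, Matrix.mulVec, Matrix.mul_apply, Finset.mul_sum] using h

/-- The strictly upper part. -/
def upper {s : ℕ} (A : Matrix (Fin s) (Fin s) F) : Matrix (Fin s) (Fin s) F :=
  Matrix.of fun i j => if i < j then A i j else 0

theorem upper_add_transpose {s : ℕ} {A : Matrix (Fin s) (Fin s) F} (hA : Aᵀ = A) (hd : ∀ i, A i i = 0) :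
    upper A + (upper A)ᵀ = A := by
  ext i j
  simp only [upper, Matrix.add_apply, Matrix.transpose_apply, Matrix.of_apply]
  rcases lt_trichotomy i j with h | rfl | h
  · rw [if_pos h, if_neg h.asymm, add_zero]
  · rw [if_neg (lt_irrefl _), hd, add_zero]
  · rw [if_neg h.asymm, if_pos h, zero_add]
    exact congrFun (congrFun hA i) j

/-- Isometries of the identity form. -/
abbrev OrthId (F : Type*) [Field F] (s : ℕ) : Type _ := {R : Matrix (Fin s) (Fin s) F // Rᵀ * R = 1}

/-- Symmetric matrices. -/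
abbrev SymMat (F : Type*) [Field F] (s : ℕ) : Type _ := {A : Matrix (Fin s) (Fin s) F // Aᵀ = A}

theorem natCard_symMat [Fintype F] (s : ℕ) : Nat.card (SymMat F s) = Fintype.card F ^ (s + 1).choose 2 := by
  rw [show (s + 1).choose 2 = Fintype.card (Sym2 (Fin s)) by rw [Sym2.card, Fintype.card_fin],
    ← Fintype.card_fun, ← Nat.card_eq_fintype_card]
  refine Nat.card_congr
    { toFun := fun A => Sym2.lift ⟨A.1, fun i j => (congrFun (congrFun A.2 j) i)⟩
      invFun := fun f => ⟨Matrix.of fun i j => f s(i, j), by ext i j; simp [Sym2.eq_swap]⟩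
      left_inv := fun A => Subtype.ext (by ext i j; simp)
      right_inv := fun f => funext fun x => by
        induction x using Sym2.inductionOn with
        | hf i j => simp }

/-- The parametrisation of the centralizer. -/
def elt (R : Matrix (Fin s) (Fin s) F) (Y : Matrix (Fin r ⊕ Fin r) (Fin r ⊕ Fin r) F)
    (T : Matrix (Fin r ⊕ Fin r) (Fin s) F) (σ : Matrix (Fin s) (Fin s) F) : Matrix (Idx s r) (Idx s r) F :=
  Matrix.fromBlocks (Matrix.fromBlocks R (R * (upper (Tᵀ * Matrix.J (Fin r) F * T) + σ)) 0 R)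
    (Matrix.fromRows (R * (Tᵀ * Matrix.J (Fin r) F * Y)) 0) (Matrix.fromCols 0 T) Y

variable (F s r) in
/-- The centralizer in adapted coordinates. -/
def centSet : Set (Matrix (Idx s r) (Idx s r) F) :=
  {g | gᵀ * om F s r * g = om F s r ∧ g * nl F s r = nl F s r * g}

theorem elt_mem [CharP F 2] (R : OrthId F s) {Y : Matrix (Fin r ⊕ Fin r) (Fin r ⊕ Fin r) F}
    (hY : Yᵀ * Matrix.J (Fin r) F * Y = Matrix.J (Fin r) F) (T : Matrix (Fin r ⊕ Fin r) (Fin s) F)
    (σ : SymMat F s) : elt R.1 Y T σ.1 ∈ centSet F s r := by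
  obtain ⟨R, hR⟩ := R
  obtain ⟨σ, hσ⟩ := σ
  refine ⟨?_, ?_⟩
  · have hA := upper_add_transpose (A := Tᵀ * Matrix.J (Fin r) F * T)
      (by rw [Matrix.transpose_mul, Matrix.transpose_mul, Matrix.transpose_transpose, transpose_J, Matrix.mul_assoc]) (diag_congr_J T)
    set K := upper (Tᵀ * Matrix.J (Fin r) F * T)
    simp only [elt, om, Matrix.fromBlocks_transpose, Matrix.transpose_fromRows, Matrix.transpose_fromCols,
      Matrix.fromBlocks_multiply, Matrix.fromCols_mul_fromBlocks, Matrix.fromBlocks_mul_fromRows,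
      Matrix.fromCols_mul_fromRows, Matrix.fromRows_mul, Matrix.mul_fromCols, Matrix.transpose_zero,
      Matrix.zero_mul, Matrix.mul_zero, Matrix.mul_one, Matrix.one_mul, add_zero, zero_add]
    simp only [Matrix.transpose_mul, Matrix.transpose_add, Matrix.transpose_transpose, transpose_J, hσ]
    have h1 : ∀ X : Matrix (Fin s) (Fin s) F, Rᵀ * (R * X) = X := fun X => by
      rw [← Matrix.mul_assoc, hR, Matrix.one_mul]
    have h2 : ∀ X : Matrix (Fin s) (Fin r ⊕ Fin r) F, Rᵀ * (R * X) = X := fun X => by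
      rw [← Matrix.mul_assoc, hR, Matrix.one_mul]
    have hY' : Yᵀ * (Matrix.J (Fin r) F * Y) = Matrix.J (Fin r) F := by rw [← Matrix.mul_assoc, hY]
    simp only [hR, hY, hY', Matrix.mul_assoc, h1, h2, Matrix.mul_one]
    refine Matrix.fromBlocks_inj.2 ⟨?_, ?_, ?_, rfl⟩
    · ext (i | i) (j | j) <;> simp
      have := congrFun (congrFun hA i) j
      simp only [K, Matrix.add_apply, Matrix.transpose_apply, Matrix.mul_assoc] at this
      linear_combination CharTwo.add_self_eq_zero (σ i j) +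
        CharTwo.add_self_eq_zero ((Tᵀ * (Matrix.J (Fin r) F * T)) i j) + this
    · ext (i | i) j <;> simp [CharTwo.add_self_eq_zero]
    · ext i (j | j) <;> simp [CharTwo.add_self_eq_zero]
  · simp only [elt, nl, Matrix.fromBlocks_multiply, Matrix.fromCols_mul_fromBlocks, Matrix.fromBlocks_mul_fromRows, Matrix.zero_mul, Matrix.mul_zero, add_zero, zero_add, Matrix.mul_one, Matrix.one_mul]
    simp [Matrix.fromRows_zero, Matrix.fromCols_zero]

theorem exists_elt_of_mem [CharP F 2] {g : Matrix (Idx s r) (Idx s r) F} (hg : g ∈ centSet F s r) :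
    ∃ (R : OrthId F s) (Y : Matrix (Fin r ⊕ Fin r) (Fin r ⊕ Fin r) F) (T : Matrix (Fin r ⊕ Fin r) (Fin s) F)
      (σ : SymMat F s), Yᵀ * Matrix.J (Fin r) F * Y = Matrix.J (Fin r) F ∧ elt R.1 Y T σ.1 = g := by
  obtain ⟨hiso, hcomm⟩ := hg
  obtain ⟨G11, G12, G21, Y, rfl⟩ : ∃ a b c d, Matrix.fromBlocks a b c d = g :=
    ⟨_, _, _, _, g.fromBlocks_toBlocks⟩
  obtain ⟨P, Z, U, R, rfl⟩ : ∃ a b c d, Matrix.fromBlocks a b c d = G11 :=
    ⟨_, _, _, _, G11.fromBlocks_toBlocks⟩
  obtain ⟨X, X', rfl⟩ : ∃ a b, Matrix.fromRows a b = G12 := ⟨_, _, Matrix.fromRows_toRows G12⟩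
  obtain ⟨T', T, rfl⟩ : ∃ a b, Matrix.fromCols a b = G21 := ⟨_, _, Matrix.fromCols_toCols G21⟩
  simp only [nl, Matrix.fromBlocks_multiply, Matrix.fromCols_mul_fromBlocks, Matrix.fromBlocks_mul_fromRows,
    Matrix.zero_mul, Matrix.mul_zero, Matrix.mul_one, Matrix.one_mul, add_zero, zero_add,
    Matrix.fromBlocks_inj] at hcomm
  obtain ⟨⟨hU, hPR, -, -⟩, hX', hT', -⟩ := hcomm
  have hU0 : U = 0 := hU.symm
  have hX'0 : X' = 0 := by
    ext i j
    simpa using (congrFun (congrFun hX' (Sum.inl i)) j).symm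
  have hT'0 : T' = 0 := by
    ext i j
    simpa using congrFun (congrFun hT' i) (Sum.inr j)
  subst hU0 hX'0 hT'0 hPR
  simp only [om, Matrix.fromBlocks_transpose, Matrix.transpose_fromRows, Matrix.transpose_fromCols,
    Matrix.fromBlocks_multiply, Matrix.fromCols_mul_fromBlocks, Matrix.fromBlocks_mul_fromRows,
    Matrix.fromCols_mul_fromRows, Matrix.fromRows_mul, Matrix.mul_fromCols, Matrix.transpose_zero,
    Matrix.zero_mul, Matrix.mul_zero, Matrix.mul_one, Matrix.one_mul, add_zero, zero_add,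
    Matrix.fromBlocks_inj] at hiso
  obtain ⟨h11, h12, -, hY⟩ := hiso
  have hR : Pᵀ * P = 1 := by
    ext i j
    simpa [Matrix.one_apply] using congrFun (congrFun h11 (Sum.inl i)) (Sum.inr j)
  have hR2 : P * Pᵀ = 1 := mul_eq_one_comm.1 hR
  have hX : X = P * (Tᵀ * Matrix.J (Fin r) F * Y) := by
    have h : Pᵀ * X + Tᵀ * Matrix.J (Fin r) F * Y = 0 := by
      ext i j
      simpa using congrFun (congrFun h12 (Sum.inr i)) j
    have h' : Pᵀ * X = Tᵀ * Matrix.J (Fin r) F * Y := by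
      rw [← add_left_inj (Tᵀ * Matrix.J (Fin r) F * Y), h, fromBlocks_add_self']
    rw [← h', ← Matrix.mul_assoc, hR2, Matrix.one_mul]
  set K := upper (Tᵀ * Matrix.J (Fin r) F * T) with hK
  have hA := upper_add_transpose (A := Tᵀ * Matrix.J (Fin r) F * T)
    (by rw [Matrix.transpose_mul, Matrix.transpose_mul, Matrix.transpose_transpose, transpose_J, Matrix.mul_assoc])
    (diag_congr_J T)
  rw [← hK] at hA
  have hσ : (Pᵀ * Z + K)ᵀ = Pᵀ * Z + K := by
    ext i j
    have e := congrFun (congrFun h11 (Sum.inr i)) (Sum.inr j)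
    simp at e
    have a := congrFun (congrFun hA i) j
    simp only [Matrix.add_apply, Matrix.transpose_apply] at a
    have hz : (Pᵀ * Z) j i = (Zᵀ * P) i j := by
      rw [← Matrix.transpose_apply (Pᵀ * Z) i j, Matrix.transpose_mul, Matrix.transpose_transpose]
    simp only [Matrix.add_apply, Matrix.transpose_apply]
    rw [hz]
    simp only [Matrix.mul_assoc] at e a
    linear_combination e + a - CharTwo.add_self_eq_zero ((Pᵀ * Z) i j + K i j)
  refine ⟨⟨P, hR⟩, Y, T, ⟨Pᵀ * Z + K, hσ⟩, ?_, ?_⟩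
  · simpa [Matrix.mul_assoc] using hY
  · simp only [elt, ← hK, ← hX]
    rw [show K + (Pᵀ * Z + K) = Pᵀ * Z by
      ext i j; simp only [Matrix.add_apply]; linear_combination CharTwo.add_self_eq_zero (K i j),
      ← Matrix.mul_assoc, hR2, Matrix.one_mul]

theorem elt_inj {R R' : OrthId F s} {Y Y' : Matrix (Fin r ⊕ Fin r) (Fin r ⊕ Fin r) F}
    {T T' : Matrix (Fin r ⊕ Fin r) (Fin s) F} {σ σ' : Matrix (Fin s) (Fin s) F}
    (h : elt R.1 Y T σ = elt R'.1 Y' T' σ') : R = R' ∧ Y = Y' ∧ T = T' ∧ σ = σ' := by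
  simp only [elt, Matrix.fromBlocks_inj] at h
  obtain ⟨⟨hR, hZ, -, -⟩, -, hT, hY⟩ := h
  have hT' : T = T' := by
    ext i j
    simpa using congrFun (congrFun hT i) (Sum.inr j)
  subst hY hT'
  rw [← Subtype.ext hR] at hZ
  have h1 := congrArg (fun X => R.1ᵀ * X) hZ
  simp only [← Matrix.mul_assoc, R.2, Matrix.one_mul] at h1
  exact ⟨Subtype.ext hR, rfl, rfl, add_left_cancel h1⟩

variable (F s r) in
theorem natCard_centSet [Fintype F] [CharP F 2] :
    Nat.card (centSet F s r) = Nat.card (OrthId F s) * Nat.card (Matrix.symplecticGroup (Fin r) F) *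
      Fintype.card F ^ (2 * r * s) * Fintype.card F ^ (s + 1).choose 2 := by
  classical
  have h1 : Nat.card (Matrix (Fin r ⊕ Fin r) (Fin s) F) = Fintype.card F ^ (2 * r * s) := by
    rw [Nat.card_eq_fintype_card]
    show Fintype.card (Fin r ⊕ Fin r → Fin s → F) = _
    rw [Fintype.card_fun, Fintype.card_fun, ← pow_mul, Fintype.card_sum, Fintype.card_fin, Fintype.card_fin]
    congr 1; ring
  rw [← natCard_symMat, ← h1, ← Nat.card_prod, ← Nat.card_prod, ← Nat.card_prod]
  refine (Nat.card_eq_of_bijective (fun x : ((OrthId F s × Matrix.symplecticGroup (Fin r) F) ×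
      Matrix (Fin r ⊕ Fin r) (Fin s) F) × SymMat F s =>
    (⟨elt x.1.1.1.1 x.1.1.2.1 x.1.2 x.2.1,
      elt_mem x.1.1.1 (SymplecticGroup.mem_iff'.1 x.1.1.2.2) x.1.2 x.2⟩ : centSet F s r)) ⟨?_, ?_⟩).symm
  · rintro ⟨⟨⟨R, Y⟩, T⟩, σ⟩ ⟨⟨⟨R', Y'⟩, T'⟩, σ'⟩ h
    obtain ⟨hR, hY, hT, hσ⟩ := elt_inj (congrArg Subtype.val h)
    simp only at hR hY hT hσ
    rw [hR, Subtype.ext hY, hT, Subtype.ext hσ]
  · rintro ⟨g, hg⟩
    obtain ⟨R, Y, T, σ, hY, rfl⟩ := exists_elt_of_mem hg
    exact ⟨(((R, ⟨Y, SymplecticGroup.mem_iff'.2 hY⟩), T), σ), rfl⟩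

theorem natCard_orthId [Fintype F] [CharP F 2] (k : ℕ) :
    Nat.card (OrthId F (2 * k + 1)) = Nat.card (Matrix.symplecticGroup (Fin k) F) := by
  classical
  have hsq : ∀ d : F, ∃ e, e * e = d := fun d =>
    haveI : Fact (Nat.Prime 2) := ⟨Nat.prime_two⟩
    ⟨(frobeniusEquiv F 2).symm d, by rw [← pow_two]; exact frobeniusEquiv_symm_pow_p (R := F) 2 d⟩
  let M : Matrix (Fin 1 ⊕ (Fin k ⊕ Fin k)) (Fin 1 ⊕ (Fin k ⊕ Fin k)) F :=
    Matrix.fromBlocks 1 0 0 (Matrix.J (Fin k) F)
  have hMT : Mᵀ = M := by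
    simp [M, Matrix.fromBlocks_transpose, neg_eq_self']
  have hMu : IsUnit M := isUnit_iff_exists.2 ⟨M,
    by simp [M, Matrix.fromBlocks_multiply, Matrix.J_squared, neg_eq_self', Matrix.fromBlocks_one],
    by simp [M, Matrix.fromBlocks_multiply, Matrix.J_squared, neg_eq_self', Matrix.fromBlocks_one]⟩
  obtain ⟨E, hE⟩ := CfsgLib.CharTwo.orthonormal_basis_aux hsq (2 * k + 1) (Matrix.toLinearMap₂' F M)
    (by rw [Module.finrank_pi]; simp; ring)
    (fun x y => by
      simp only [Matrix.toLinearMap₂'_apply']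
      rw [dotProduct_comm, ← Matrix.vecMul_transpose, hMT, Matrix.dotProduct_mulVec])
    (fun x hx => (LinearMap.BilinForm.nondegenerate_toBilin'_iff_det_ne_zero.2
      ((Matrix.isUnit_iff_isUnit_det _).1 hMu).ne_zero).1 x hx)
    (Or.inr ⟨Pi.single (Sum.inl 0) 1, by
      simp [Matrix.toLinearMap₂'_apply', Matrix.mulVec_single_one, M]⟩)
  set P := LinearMap.toMatrix' E.toLinearMap with hP
  set Q := LinearMap.toMatrix' E.symm.toLinearMap with hQ
  have hPQ : P * Q = 1 := by
    rw [hP, hQ, ← LinearMap.toMatrix'_comp]; simp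
  have hQP : Q * P = 1 := by
    rw [hP, hQ, ← LinearMap.toMatrix'_comp]; simp
  have hPM : Pᵀ * M * P = 1 := by
    have h : (Matrix.toLinearMap₂' F M).compl₁₂ E.toLinearMap E.toLinearMap =
        Matrix.toLinearMap₂' F (1 : Matrix (Fin (2 * k + 1)) (Fin (2 * k + 1)) F) := by
      refine LinearMap.ext₂ fun a c => ?_
      rw [LinearMap.compl₁₂_apply, LinearEquiv.coe_coe, hE]
      simp [Matrix.toLinearMap₂'_apply', dotProduct]
    have h' := congrArg (LinearMap.toMatrix₂' F) h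
    rwa [LinearMap.toMatrix₂'_compl₁₂, LinearMap.toMatrix'_toLinearMap₂', LinearMap.toMatrix'_toLinearMap₂'] at h'
  have hQQ : Qᵀ * Q = M := by
    have h1 : Qᵀ * Pᵀ = 1 := by rw [← Matrix.transpose_mul, hPQ, Matrix.transpose_one]
    calc Qᵀ * Q = Qᵀ * (Pᵀ * M * P) * Q := by rw [hPM, Matrix.mul_one]
      _ = Qᵀ * Pᵀ * M * (P * Q) := by simp only [Matrix.mul_assoc]
      _ = M := by rw [h1, hPQ, Matrix.one_mul, Matrix.mul_one]
  refine (Nat.card_congr (?_ : _ ≃ {X // Xᵀ * M * X = M})).trans ?_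
  · refine
      { toFun := fun R => ⟨P * R.1 * Q, ?_⟩
        invFun := fun X => ⟨Q * X.1 * P, ?_⟩
        left_inv := fun R => Subtype.ext ?_
        right_inv := fun X => Subtype.ext ?_ }
    · calc (P * R.1 * Q)ᵀ * M * (P * R.1 * Q)
          = Qᵀ * (R.1ᵀ * (Pᵀ * M * P) * R.1) * Q := by simp only [Matrix.transpose_mul, Matrix.mul_assoc]
        _ = M := by rw [hPM, Matrix.mul_one, R.2, Matrix.mul_one, hQQ]
    · calc (Q * X.1 * P)ᵀ * (Q * X.1 * P)
          = Pᵀ * (X.1ᵀ * (Qᵀ * Q) * X.1) * P := by simp only [Matrix.transpose_mul, Matrix.mul_assoc]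
        _ = 1 := by rw [hQQ, X.2, hPM]
    · calc Q * (P * R.1 * Q) * P = (Q * P) * R.1 * (Q * P) := by simp only [Matrix.mul_assoc]
        _ = R.1 := by rw [hQP, Matrix.one_mul, Matrix.mul_one]
    · calc P * (Q * X.1 * P) * Q = (P * Q) * X.1 * (P * Q) := by simp only [Matrix.mul_assoc]
        _ = X.1 := by rw [hPQ, Matrix.one_mul, Matrix.mul_one]
  refine (Nat.card_eq_of_bijective (fun Y : Matrix.symplecticGroup (Fin k) F =>
    (⟨Matrix.fromBlocks 1 0 0 Y.1, by
      simp only [M, Matrix.fromBlocks_transpose, Matrix.fromBlocks_multiply, Matrix.transpose_one,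
        Matrix.transpose_zero, Matrix.zero_mul, Matrix.mul_zero, add_zero, zero_add, Matrix.one_mul,
        SymplecticGroup.mem_iff'.1 Y.2]⟩ : {X // Xᵀ * M * X = M})) ⟨fun Y Y' h => ?_, ?_⟩).symm
  · exact Subtype.ext (Matrix.fromBlocks_inj.1 (congrArg Subtype.val h)).2.2.2
  · rintro ⟨X, hX⟩
    obtain ⟨a, b, c, Y, rfl⟩ : ∃ a b c d, Matrix.fromBlocks a b c d = X := ⟨_, _, _, _, X.fromBlocks_toBlocks⟩
    have hX' := hX
    simp only [M, Matrix.fromBlocks_transpose, Matrix.fromBlocks_multiply, Matrix.zero_mul,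
      Matrix.mul_zero, Matrix.mul_one, add_zero, zero_add, Matrix.fromBlocks_inj] at hX
    obtain ⟨h11, h12, -, h22⟩ := hX
    have hb : b = 0 := by
      ext i j
      have hi : i = 0 := Subsingleton.elim _ _
      have h := congrFun (congrFun h22 j) j
      rw [Matrix.add_apply, diag_congr_J, add_zero, Matrix.mul_apply, Fin.sum_univ_one] at h
      have hJ : (Matrix.J (Fin k) F) j j = 0 := by rcases j with j | j <;> simp [Matrix.J]
      rw [hJ, Matrix.transpose_apply] at h
      rw [hi, Matrix.zero_apply]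
      exact mul_self_eq_zero.1 h
    subst hb
    simp only [Matrix.transpose_zero, Matrix.zero_mul, Matrix.mul_zero, zero_add] at h22 h12
    have ha : a = 1 := by
      ext i j
      have hi : i = 0 := Subsingleton.elim _ _
      have hj : j = 0 := Subsingleton.elim _ _
      have h := congrFun (congrFun h11 0) 0
      rw [Matrix.add_apply, diag_congr_J, add_zero, Matrix.mul_apply, Fin.sum_univ_one, Matrix.transpose_apply,
        Matrix.one_apply_eq] at h
      rw [hi, hj, Matrix.one_apply_eq]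
      rcases mul_self_eq_one_iff.1 h with h' | h'
      · exact h'
      · rw [h', CharTwo.neg_eq]
    have hYu : IsUnit (Matrix.J (Fin k) F * Y) := by
      rw [Matrix.isUnit_iff_isUnit_det, isUnit_iff_ne_zero, Matrix.det_mul]
      intro h0
      have h := congrArg Matrix.det h22
      rw [Matrix.det_mul, Matrix.det_mul, mul_assoc, h0, mul_zero] at h
      exact ((Matrix.isUnit_iff_isUnit_det _).1 (isUnit_iff_exists.2 ⟨-Matrix.J (Fin k) F, by simp [Matrix.J_squared], by simp [Matrix.J_squared]⟩ : IsUnit (Matrix.J (Fin k) F))).ne_zero h.symm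
    have hc : c = 0 := by
      obtain ⟨u, hu⟩ := hYu.exists_right_inv
      have : cᵀ = 0 := by
        rw [← Matrix.mul_one cᵀ, ← hu, ← Matrix.mul_assoc, ← Matrix.mul_assoc, h12, Matrix.zero_mul]
      rw [← Matrix.transpose_transpose c, this, Matrix.transpose_zero]
    subst ha hc
    exact ⟨⟨Y, SymplecticGroup.mem_iff'.2 h22⟩, rfl⟩

variable (F s r) in
/-- The standard involution. -/
theorem exists_model [CharP F 2] :
    ∃ t : Matrix.symplecticGroup (Fin (s + r)) F,
      Matrix.reindex (idxEquiv s r) (idxEquiv s r) (t : Matrix (Fin (s + r) ⊕ Fin (s + r)) (Fin (s + r) ⊕ Fin (s + r)) F)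
        = 1 + nl F s r := by
  set φ := Matrix.reindexAlgEquiv F F (idxEquiv s r)
  have hφ : ∀ A, φ A = Matrix.reindex (idxEquiv s r) (idxEquiv s r) A := fun A => rfl
  refine ⟨⟨φ.symm (1 + nl F s r), ?_⟩, φ.apply_symm_apply _⟩
  rw [SymplecticGroup.mem_iff']
  apply φ.injective
  have ht : ∀ A, φ Aᵀ = (φ A)ᵀ := fun A => by rw [hφ, hφ, Matrix.transpose_reindex]
  rw [map_mul, map_mul, ht, φ.apply_symm_apply, hφ, reindex_J]
  simp only [nl, om, ← Matrix.fromBlocks_one, Matrix.fromBlocks_add, Matrix.fromBlocks_transpose,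
    Matrix.fromBlocks_multiply, Matrix.transpose_one, Matrix.transpose_zero, Matrix.zero_mul, Matrix.mul_zero,
    Matrix.mul_one, Matrix.one_mul, add_zero, zero_add, fromBlocks_add_self', Matrix.transpose_add]
  simp [Matrix.fromBlocks_one]

theorem natCard_centralizer [Fintype F] [CharP F 2] (t : Matrix.symplecticGroup (Fin (s + r)) F)
    (ht : Matrix.reindex (idxEquiv s r) (idxEquiv s r) (t : Matrix (Fin (s + r) ⊕ Fin (s + r)) (Fin (s + r) ⊕ Fin (s + r)) F)
        = 1 + nl F s r) :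
    Nat.card (Subgroup.centralizer ({t} : Set (Matrix.symplecticGroup (Fin (s + r)) F))) = Nat.card (centSet F s r) := by
  set φ := Matrix.reindexAlgEquiv F F (idxEquiv s r)
  have hφ : ∀ A, φ A = Matrix.reindex (idxEquiv s r) (idxEquiv s r) A := fun A => rfl
  have htr : ∀ A, φ Aᵀ = (φ A)ᵀ := fun A => by rw [hφ, hφ, Matrix.transpose_reindex]
  have hmem : ∀ x : Matrix (Fin (s + r) ⊕ Fin (s + r)) (Fin (s + r) ⊕ Fin (s + r)) F,
      φ x ∈ centSet F s r ↔ x ∈ Matrix.symplecticGroup (Fin (s + r)) F ∧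
        (t : Matrix (Fin (s + r) ⊕ Fin (s + r)) (Fin (s + r) ⊕ Fin (s + r)) F) * x = x * t := by
    intro x
    refine and_congr ?_ ?_
    · rw [SymplecticGroup.mem_iff', ← φ.injective.eq_iff, map_mul, map_mul, htr, hφ (Matrix.J _ _), reindex_J]
    · rw [← φ.injective.eq_iff, map_mul, map_mul, hφ (t : Matrix _ _ F), ht, add_mul, mul_add, one_mul, mul_one,
        add_right_inj]
      exact eq_comm
  refine Nat.card_congr
    { toFun := fun g => ⟨φ (g.1 : Matrix (Fin (s + r) ⊕ Fin (s + r)) (Fin (s + r) ⊕ Fin (s + r)) F),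
        (hmem _).2 ⟨g.1.2, congrArg Subtype.val (Subgroup.mem_centralizer_iff.1 g.2 t rfl)⟩⟩
      invFun := fun x =>
        have h : φ (φ.symm x.1) ∈ centSet F s r := by rw [φ.apply_symm_apply]; exact x.2
        ⟨⟨φ.symm x.1, ((hmem _).1 h).1⟩, Subgroup.mem_centralizer_iff.2 fun y hy => by
          rw [Set.mem_singleton_iff.1 hy]
          exact Subtype.ext ((hmem _).1 h).2⟩
      left_inv := fun g => Subtype.ext (Subtype.ext (φ.symm_apply_apply _))
      right_inv := fun x => Subtype.ext (φ.apply_symm_apply _) }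

theorem rank_nl : (nl F s r).rank = s := by
  classical
  refine CfsgLib.CharTwo.rank_eq_of_factor_of_submatrix _
    (Matrix.fromRows (Matrix.fromRows 1 0) 0) (Matrix.fromCols (Matrix.fromCols 0 1) 0) ?_
    (fun i => Sum.inl (Sum.inl i)) (fun i => Sum.inl (Sum.inr i)) ?_
  · ext ((i | i) | i) ((j | j) | j) <;> simp [nl, Matrix.mul_apply, Matrix.one_apply]
  · ext i j; simp [nl]

end CfsgLib.UnipotentForms.CharTwoCent
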