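import Cfsg.Agent.UnipotentForms.OrthFormCount

/-!
Centralizer orders of symplectic involutions in characteristic two in terms of the induced form.
-/

set_option autoImplicit false

namespace CfsgLib.UnipotentForms.CharTwoCent

open Finset Matrix

variable {F : Type*} [Field F] [CharP F 2]

theorem dotProduct_mulVec_symm {ι : Type*} [Fintype ι] [DecidableEq ι] (A : Matrix ι ι F) (hA : Aᵀ = A)
    (v : ι → F) : v ⬝ᵥ A *ᵥ v = ∑ i, A i i * (v i * v i) := by
  let φ : (ι → F) →+ F := AddMonoidHom.mk' (fun w => w ⬝ᵥ A *ᵥ w) fun u w => by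
    have h : w ⬝ᵥ A *ᵥ u = u ⬝ᵥ A *ᵥ w := by
      rw [dotProduct_comm, ← Matrix.vecMul_transpose, hA, Matrix.dotProduct_mulVec]
    rw [Matrix.mulVec_add, dotProduct_add, add_dotProduct, add_dotProduct, h]
    linear_combination CharTwo.add_self_eq_zero (u ⬝ᵥ A *ᵥ w)
  calc v ⬝ᵥ A *ᵥ v = φ (∑ i, Pi.single i (v i)) := by rw [Finset.univ_sum_single]; rfl
    _ = ∑ i, φ (Pi.single i (v i)) := map_sum φ _ _
    _ = _ := Finset.sum_congr rfl fun i _ => by
        show Pi.single i (v i) ⬝ᵥ A *ᵥ Pi.single i (v i) = _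
        rw [single_dotProduct, Matrix.mulVec_single]
        simp; ring

theorem alt_iff_diag {m : ℕ} (T : Matrix.symplecticGroup (Fin m) F) (hT : T * T = 1) :
    (∀ v, Cfsg.sympForm m F v ((T : Matrix (Fin m ⊕ Fin m) (Fin m ⊕ Fin m) F) *ᵥ v) = 0) ↔
      ∀ i, (Matrix.J (Fin m) F * (T : Matrix (Fin m ⊕ Fin m) (Fin m ⊕ Fin m) F)) i i = 0 := by
  set A := Matrix.J (Fin m) F * (T : Matrix (Fin m ⊕ Fin m) (Fin m ⊕ Fin m) F)
  have hTT : (T : Matrix (Fin m ⊕ Fin m) (Fin m ⊕ Fin m) F) * T = 1 := congrArg Subtype.val hT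
  have hA : Aᵀ = A := by
    have h := SymplecticGroup.mem_iff'.1 T.2
    calc Aᵀ = (T : Matrix (Fin m ⊕ Fin m) (Fin m ⊕ Fin m) F)ᵀ * Matrix.J (Fin m) F *
          ((T : Matrix (Fin m ⊕ Fin m) (Fin m ⊕ Fin m) F) * T) := by
          rw [hTT, Matrix.mul_one, Matrix.transpose_mul, transpose_J]
      _ = A := by rw [← Matrix.mul_assoc, h]
  have key : ∀ v, Cfsg.sympForm m F v ((T : Matrix (Fin m ⊕ Fin m) (Fin m ⊕ Fin m) F) *ᵥ v) =
      ∑ i, A i i * (v i * v i) := fun v => by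
    rw [← dotProduct_mulVec_symm A hA, Cfsg.sympForm, Matrix.mulVec_mulVec]
  refine ⟨fun h i => ?_, fun h v => by rw [key]; simp [h]⟩
  have h' := key (Pi.single i 1)
  rw [h, Finset.sum_eq_single i (fun j _ hj => by simp [hj]) (by simp)] at h'
  simpa using h'.symm

theorem nlF_sq {s r : ℕ} (H : Matrix (Fin s) (Fin s) F) : nlF H r * nlF H r = 0 := by
  simp [nlF, Matrix.fromBlocks_multiply]

/-- Centralizer order of a symplectic involution, in terms of a normal form of its induced form. -/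
theorem natCard_centralizer_of_type [Fintype F] {s r : ℕ} (H : Matrix (Fin s) (Fin s) F) (hHT : Hᵀ = H)
    (hH : H * H = 1) (t : Matrix.symplecticGroup (Fin (s + r)) F) (ht : t * t = 1)
    (hs : ((t : Matrix (Fin (s + r) ⊕ Fin (s + r)) (Fin (s + r) ⊕ Fin (s + r)) F) - 1).rank = s)
    (hty : (∀ v, Cfsg.sympForm (s + r) F v
      ((t : Matrix (Fin (s + r) ⊕ Fin (s + r)) (Fin (s + r) ⊕ Fin (s + r)) F) *ᵥ v) = 0) ↔ ∀ i, H i i = 0) :
    Nat.card (Subgroup.centralizer ({t} : Set (Matrix.symplecticGroup (Fin (s + r)) F))) =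
      Nat.card (OrthForm H) * Nat.card (Matrix.symplecticGroup (Fin r) F) *
        Fintype.card F ^ (2 * r * s) * Fintype.card F ^ (s + 1).choose 2 := by
  classical
  obtain ⟨t₀, ht₀⟩ := exists_modelF (r := r) hHT
  set φ := Matrix.reindexAlgEquiv F F (idxEquiv s r) with hφdef
  have hφ : ∀ A, φ A = Matrix.reindex (idxEquiv s r) (idxEquiv s r) A := fun A => rfl
  have ht₀2 : t₀ * t₀ = 1 := Subtype.ext (φ.injective (by
    show φ ((t₀ : Matrix (Fin (s + r) ⊕ Fin (s + r)) (Fin (s + r) ⊕ Fin (s + r)) F) * t₀) = φ 1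
    rw [map_mul, map_one, hφ, ht₀]
    exact CfsgLib.CharTwo.mul_self_eq_one_of_sq_zero _ (nlF_sq H)))
  have hrk : ((t₀ : Matrix (Fin (s + r) ⊕ Fin (s + r)) (Fin (s + r) ⊕ Fin (s + r)) F) - 1).rank = s := by
    have h : φ ((t₀ : Matrix (Fin (s + r) ⊕ Fin (s + r)) (Fin (s + r) ⊕ Fin (s + r)) F) - 1) = nlF H r := by
      rw [map_sub, map_one, hφ, ht₀, add_sub_cancel_left]
    rw [← Matrix.rank_reindex (idxEquiv s r) (idxEquiv s r), ← hφ, h, rank_nlF hH]
  have hty₀ : (∀ v, Cfsg.sympForm (s + r) F v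
      ((t₀ : Matrix (Fin (s + r) ⊕ Fin (s + r)) (Fin (s + r) ⊕ Fin (s + r)) F) *ᵥ v) = 0) ↔ ∀ i, H i i = 0 := by
    rw [alt_iff_diag t₀ ht₀2]
    have hd : ∀ p, (Matrix.J (Fin (s + r)) F *
        (t₀ : Matrix (Fin (s + r) ⊕ Fin (s + r)) (Fin (s + r) ⊕ Fin (s + r)) F)) ((idxEquiv s r).symm p)
          ((idxEquiv s r).symm p) = (om F s r * (1 + nlF H r)) p p := fun p => by
      rw [← ht₀, ← reindex_J, ← hφ, ← hφ, ← map_mul]; rfl
    have hdiag : ∀ p, (om F s r * (1 + nlF H r)) p p =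
        Sum.elim (Sum.elim (fun _ => (0 : F)) fun i => H i i) (fun _ => 0) p := by
      intro p
      rw [Matrix.mul_add, Matrix.mul_one, Matrix.add_apply]
      rcases p with (i | i) | (i | i) <;>
        simp [om, nlF, Matrix.fromBlocks_multiply, Matrix.J]
    refine ⟨fun h i => ?_, fun h i => ?_⟩
    · have := hd (Sum.inl (Sum.inr i))
      rw [h, hdiag] at this
      exact this.symm
    · have := hd (idxEquiv s r i)
      rw [Equiv.symm_apply_apply, hdiag] at this
      rw [this]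
      rcases idxEquiv s r i with (j | j) | j <;> simp [h]
  obtain ⟨c, hc⟩ := isConj_iff.1 (CfsgLib.CharTwo.exists_symplectic_conj t₀ t ht₀2 ht (hrk.trans hs.symm)
    (hty₀.trans hty.symm))
  rw [show Nat.card (Subgroup.centralizer ({t} : Set (Matrix.symplecticGroup (Fin (s + r)) F))) =
      Nat.card (Subgroup.centralizer ({t₀} : Set (Matrix.symplecticGroup (Fin (s + r)) F))) by
    refine Nat.card_congr ((Subgroup.centralizer {t}).equivMapOfInjective (MulAut.conj c⁻¹).toMonoidHom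
      (MulAut.conj c⁻¹).injective |>.toEquiv.trans (Equiv.setCongr ?_))
    ext x
    simp only [SetLike.mem_coe, Subgroup.mem_map_equiv, Subgroup.mem_centralizer_singleton_iff, MulEquiv.coe_toMonoidHom]
    rw [← hc]
    simp [MulAut.conj_symm_apply, mul_assoc]
    rw [← mul_assoc, ← mul_assoc, mul_left_inj],
    natCard_centralizerF t₀ ht₀, natCard_centSetF hHT hH]

/-- The rank of `t - 1` for an involution is at most half the dimension. -/
theorem rank_le_half {m s : ℕ} (T : Matrix (Fin m ⊕ Fin m) (Fin m ⊕ Fin m) F) (hT : T * T = 1)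
    (hs : (T - 1).rank = s) : s ≤ m := by
  have hsq0 : (T - 1) * (T - 1) = 0 := by
    rw [sub_mul, mul_sub, mul_sub, hT, one_mul, mul_one, one_mul]
    ext i j
    simp only [Matrix.sub_apply, Matrix.zero_apply, CharTwo.sub_eq_add]
    linear_combination CharTwo.add_self_eq_zero ((1 : Matrix (Fin m ⊕ Fin m) (Fin m ⊕ Fin m) F) i j) +
      CharTwo.add_self_eq_zero (T i j)
  have h := LinearMap.finrank_range_add_finrank_ker (T - 1).mulVecLin
  rw [Module.finrank_pi, Fintype.card_sum, Fintype.card_fin] at h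
  have h2 : LinearMap.range (T - 1).mulVecLin ≤ LinearMap.ker (T - 1).mulVecLin := by
    rw [LinearMap.range_le_ker_iff, ← Matrix.mulVecLin_mul, hsq0, Matrix.mulVecLin_zero]
  have h3 := Submodule.finrank_mono h2
  rw [Matrix.rank] at hs
  omega

end CfsgLib.UnipotentForms.CharTwoCent
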