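import Cfsg.Agent.UnipotentForms.QuadCentralizer

/-!
Centralizers of involutions in `Ω⁺` in characteristic two in terms of symplectic centralizers.
-/

set_option autoImplicit false

namespace CfsgLib.UnipotentForms.OrthTwoCent

open Matrix CfsgLib.CharTwo CfsgLib.StdForms CfsgLib.Spinor

variable {F : Type*} [Field F] [CharP F 2] [Fintype F] {m : ℕ}

local notation "Vec" => (Fin m ⊕ Fin m → F)
local notation "Mat" => Matrix (Fin m ⊕ Fin m) (Fin m ⊕ Fin m) F

/-- The elements of `Ω` commuting with `x`. -/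
abbrev OmegaCent (Q : Vec → F) (x : ↥(Cfsg.isometryGroup F Q)) : Type _ :=
  {g : ↥(Cfsg.Omega F Q) // (g : ↥(Cfsg.isometryGroup F Q)) * x = x * (g : ↥(Cfsg.isometryGroup F Q))}

theorem natCard_omega_centralizer_aux {s : ℕ} (hexc : Fintype.card F ≠ 2 ∨ m ≠ 2)
    (x : Oq F m) (hx : x ^ 2 = 1) (hs : (mat (plusQ m F) x - 1).rank = s) :
    ∃ x' : Matrix.symplecticGroup (Fin m) F, (x' : Mat) = mat (plusQ m F) x ∧ x' ^ 2 = 1 ∧
      ((∀ v, Cfsg.sympForm m F v ((x' : Mat) *ᵥ v) = 0) ↔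
        ∀ v, Cfsg.quadFormPlus m F ((mat (plusQ m F) x - 1) *ᵥ v) = 0) ∧
      ((∃ v, Cfsg.quadFormPlus m F ((mat (plusQ m F) x - 1) *ᵥ v) ≠ 0) →
        Nat.card (OmegaCent ⇑(plusQ m F) x) * Fintype.card F ^ (2 * m - s) =
          Nat.card (Subgroup.centralizer ({x'} : Set (Matrix.symplecticGroup (Fin m) F)))) ∧
      ((∀ v, Cfsg.quadFormPlus m F ((mat (plusQ m F) x - 1) *ᵥ v) = 0) → s < m →
        Nat.card (OmegaCent ⇑(plusQ m F) x) * (Fintype.card F ^ (2 * m - s) + Fintype.card F ^ m) =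
          Nat.card (Subgroup.centralizer ({x'} : Set (Matrix.symplecticGroup (Fin m) F)))) ∧
      ((∀ v, Cfsg.quadFormPlus m F ((mat (plusQ m F) x - 1) *ᵥ v) = 0) → s = m →
        Nat.card (OmegaCent ⇑(plusQ m F) x) * Fintype.card F ^ m =
          Nat.card (Subgroup.centralizer ({x'} : Set (Matrix.symplecticGroup (Fin m) F)))) := by
  classical
  have hx' : x * x = 1 := by rw [← pow_two]; exact hx
  set X := mat (plusQ m F) x with hXdef
  have hX : X * X = 1 := by rw [hXdef, ← mat_mul, hx', mat_one]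
  let x' : Matrix.symplecticGroup (Fin m) F := ⟨X, mem_symplectic x⟩
  have hQ := quad_pres x
  have hsa := disp_adjoint X hQ hX
  have hqd := quad_disp X hQ
  have hcent := natCard_centralizer_mul x hx' x' rfl
  have hparam := natCard_param x
  rw [← hXdef] at hparam
  have hker : Module.finrank F (LinearMap.ker (X - 1).mulVecLin) = 2 * m - s := by
    have h := LinearMap.finrank_range_add_finrank_ker (X - 1).mulVecLin
    rw [Module.finrank_pi, Fintype.card_sum, Fintype.card_fin] at h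
    rw [← hs, Matrix.rank]; omega
  rw [hker] at hparam
  have hK : (Finset.univ.filter fun v : Vec => (X - 1) *ᵥ v = 0).card = Fintype.card F ^ (2 * m - s) := by
    rw [← hker, ← Fintype.card_subtype]
    exact (Fintype.card_congr (Equiv.subtypeEquivRight fun v => by
        rw [LinearMap.mem_ker, Matrix.mulVecLin_apply])).trans
      (Module.card_eq_pow_finrank (K := F) (V := LinearMap.ker (X - 1).mulVecLin))
  have hexc' : Nat.card F ≠ 2 ∨ Fintype.card (Fin m ⊕ Fin m) ≠ 4 := by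
    rw [Nat.card_eq_fintype_card, Fintype.card_sum, Fintype.card_fin]
    omega
  have hnd := plusQ_nondegenerate (F := F) m
  have hgen := CfsgLib.Forms.exists_isReflProd_finite hnd hexc'
  set par := CfsgLib.Forms.parityHom hnd hgen with hpar
  have hΩ : Cfsg.Omega F ⇑(plusQ m F) = par.ker := CfsgLib.Forms.omega_eq_ker_charTwo hnd hgen hexc'
  set C := Subgroup.centralizer ({x} : Set (Oq F m)) with hC
  set φ := par.comp C.subtype
  have hOC : Nat.card (OmegaCent ⇑(plusQ m F) x) = Nat.card φ.ker := by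
    refine Nat.card_congr
      { toFun := fun g => ⟨⟨g.1.1, Subgroup.mem_centralizer_iff.2 fun y hy => by
          rw [Set.mem_singleton_iff.1 hy]; exact g.2.symm⟩, ?_⟩
        invFun := fun g => ⟨⟨g.1.1, ?_⟩, (Subgroup.mem_centralizer_iff.1 g.1.2 x rfl).symm⟩
        left_inv := fun g => rfl
        right_inv := fun g => rfl }
    · exact (SetLike.ext_iff.1 hΩ _).1 g.1.2
    · exact (SetLike.ext_iff.1 hΩ _).2 g.2
  have two : (∃ b, (X - 1) *ᵥ b = 0 ∧ Cfsg.quadFormPlus m F b ≠ 0) →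
      Nat.card C = 2 * Nat.card φ.ker := by
    rintro ⟨b, hb, hQb⟩
    rw [← plusQ_apply] at hQb
    have hrC : reflIso (plusQ m F) b hQb ∈ C := Subgroup.mem_centralizer_iff.2 fun y hy => by
      rw [Set.mem_singleton_iff.1 hy]
      refine mat_ext _ ?_
      rw [mat_mul, mat_mul, mat_reflIso, mat_mul_reflectionMatrix, disp_fixed x hb]
    have hsur : φ.range = ⊤ := MonoidHom.range_eq_top.2 fun u => by
      rcases Int.units_eq_one_or u with rfl | rfl
      · exact ⟨1, map_one _⟩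
      · exact ⟨⟨_, hrC⟩, CfsgLib.Forms.parityHom_reflIso hnd hgen b hQb⟩
    rw [← φ.ker.card_mul_index, Subgroup.index_ker, hsur, Subgroup.card_top,
      Nat.card_eq_fintype_card (α := ℤˣ), Fintype.card_units_int, mul_comm]
  have halt_iff : (∀ v, Cfsg.sympForm m F v (X *ᵥ v) = 0) ↔
      ∀ v, Cfsg.quadFormPlus m F ((X - 1) *ᵥ v) = 0 := by
    refine forall_congr' fun v => ?_
    rw [hqd, Matrix.sub_mulVec, Matrix.one_mulVec, map_sub, sympBil_self, sub_zero, sympBil_apply]
  refine ⟨x', rfl, ?_, halt_iff, fun hna => ?_, fun halt hlt => ?_, fun halt heq => ?_⟩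
  · rw [pow_two]; exact Subtype.ext hX
  · rw [sum_fixed_nonalt X hQ hX hna, add_zero] at hparam
    have hp : 2 * Nat.card (Param x) = Fintype.card F ^ (2 * m - s) := by exact_mod_cast hparam
    obtain ⟨w, hw⟩ := hna
    rw [← hcent, hOC, two ⟨_, disp_disp X hX w, hw⟩, ← hp]; ring
  · rw [sum_fixed_alt X hQ hX halt] at hparam
    have hp : 2 * Nat.card (Param x) = Fintype.card F ^ (2 * m - s) + Fintype.card F ^ m := by
      exact_mod_cast hparam
    have hb : ∃ b, (X - 1) *ᵥ b = 0 ∧ Cfsg.quadFormPlus m F b ≠ 0 := by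
      by_contra hne
      have h := sum_fixed_alt X hQ hX halt
      rw [Finset.sum_congr rfl fun v hv => by
        rw [show Cfsg.quadFormPlus m F v = 0 from not_not.1 fun h0 => hne ⟨v, (Finset.mem_filter.1 hv).2, h0⟩,
          psi_zero], Finset.sum_const, nsmul_eq_mul, mul_one, hK] at h
      have h' : Fintype.card F ^ (2 * m - s) = Fintype.card F ^ m := by exact_mod_cast h
      have := Nat.pow_right_injective Fintype.one_lt_card h'
      omega
    rw [← hcent, hOC, two hb, ← hp]; ring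
  · rw [sum_fixed_alt X hQ hX halt, show 2 * m - s = m by omega] at hparam
    have hp : Nat.card (Param x) = Fintype.card F ^ m := by
      have h : 2 * Nat.card (Param x) = Fintype.card F ^ m + Fintype.card F ^ m := by exact_mod_cast hparam
      omega
    have hall : φ.ker = ⊤ := by
      rw [eq_top_iff]
      rintro ⟨g, hg⟩ -
      obtain ⟨vs, hvs⟩ := hgen g
      rw [MonoidHom.mem_ker]
      show par g = 1
      rw [hpar, CfsgLib.Forms.parityHom_eq hnd hgen hvs, neg_one_pow_eq_one_iff_even (by decide)]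
      let W := LinearMap.range (X - 1).mulVecLin
      have hW : CfsgLib.Dickson.IsLag (plusQ m F) m W := by
        refine ⟨hs.trans heq, ?_⟩
        rintro _ ⟨v, rfl⟩
        rw [plusQ_apply]
        exact halt v
      have hgX : mat (plusQ m F) g * X = X * mat (plusQ m F) g := by
        rw [hXdef, ← mat_mul, ← mat_mul, Subgroup.mem_centralizer_iff.1 hg x rfl]
      have hmap : W.map ((CfsgLib.Dickson.toOrth (plusQ m F) g : Vec ≃ₗ[F] Vec) : Vec →ₗ[F] Vec) = W := by
        refine Submodule.eq_of_le_of_finrank_eq ?_ (LinearEquiv.finrank_map_eq _ _)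
        rintro _ ⟨_, ⟨v, rfl⟩, rfl⟩
        refine ⟨mat (plusQ m F) g *ᵥ v, ?_⟩
        show (X - 1) *ᵥ (mat (plusQ m F) g *ᵥ v) = mat (plusQ m F) g *ᵥ ((X - 1) *ᵥ v)
        rw [Matrix.mulVec_mulVec, Matrix.mulVec_mulVec, sub_mul, mul_sub, hgX, one_mul, mul_one]
      have h := even_of_map_lag hW vs g hvs W hW
      rw [hmap, inf_idem] at h
      exact ZMod.natCast_eq_zero_iff_even.1 (add_eq_left.1 h.symm)
    rw [← hcent, hOC, hall, Subgroup.card_top, hp]

theorem natCard_omega_centralizer {s : ℕ} (hexc : Fintype.card F ≠ 2 ∨ m ≠ 2)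
    (x : ↥(Cfsg.isometryGroup F (Cfsg.quadFormPlus m F))) (hx : x ^ 2 = 1)
    (hs : (((x : GL (Fin m ⊕ Fin m) F) : Mat) - 1).rank = s) :
    ∃ x' : Matrix.symplecticGroup (Fin m) F, (x' : Mat) = ((x : GL (Fin m ⊕ Fin m) F) : Mat) ∧ x' ^ 2 = 1 ∧
      ((∀ v, Cfsg.sympForm m F v ((x' : Mat) *ᵥ v) = 0) ↔
        ∀ v, Cfsg.quadFormPlus m F ((((x : GL (Fin m ⊕ Fin m) F) : Mat) - 1) *ᵥ v) = 0) ∧
      ((∃ v, Cfsg.quadFormPlus m F ((((x : GL (Fin m ⊕ Fin m) F) : Mat) - 1) *ᵥ v) ≠ 0) →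
        Nat.card (OmegaCent (Cfsg.quadFormPlus m F) x) * Fintype.card F ^ (2 * m - s) =
          Nat.card (Subgroup.centralizer ({x'} : Set (Matrix.symplecticGroup (Fin m) F)))) ∧
      ((∀ v, Cfsg.quadFormPlus m F ((((x : GL (Fin m ⊕ Fin m) F) : Mat) - 1) *ᵥ v) = 0) → s < m →
        Nat.card (OmegaCent (Cfsg.quadFormPlus m F) x) * (Fintype.card F ^ (2 * m - s) + Fintype.card F ^ m) =
          Nat.card (Subgroup.centralizer ({x'} : Set (Matrix.symplecticGroup (Fin m) F)))) ∧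
      ((∀ v, Cfsg.quadFormPlus m F ((((x : GL (Fin m ⊕ Fin m) F) : Mat) - 1) *ᵥ v) = 0) → s = m →
        Nat.card (OmegaCent (Cfsg.quadFormPlus m F) x) * Fintype.card F ^ m =
          Nat.card (Subgroup.centralizer ({x'} : Set (Matrix.symplecticGroup (Fin m) F)))) := by
  have key : ∀ (Q : Vec → F) (_ : Q = ⇑(plusQ m F)) (y : ↥(Cfsg.isometryGroup F Q)), y ^ 2 = 1 →
      (((y : GL (Fin m ⊕ Fin m) F) : Mat) - 1).rank = s →
      ∃ x' : Matrix.symplecticGroup (Fin m) F, (x' : Mat) = ((y : GL (Fin m ⊕ Fin m) F) : Mat) ∧ x' ^ 2 = 1 ∧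
        ((∀ v, Cfsg.sympForm m F v ((x' : Mat) *ᵥ v) = 0) ↔
          ∀ v, Cfsg.quadFormPlus m F ((((y : GL (Fin m ⊕ Fin m) F) : Mat) - 1) *ᵥ v) = 0) ∧
        ((∃ v, Cfsg.quadFormPlus m F ((((y : GL (Fin m ⊕ Fin m) F) : Mat) - 1) *ᵥ v) ≠ 0) →
          Nat.card (OmegaCent Q y) * Fintype.card F ^ (2 * m - s) =
            Nat.card (Subgroup.centralizer ({x'} : Set (Matrix.symplecticGroup (Fin m) F)))) ∧
        ((∀ v, Cfsg.quadFormPlus m F ((((y : GL (Fin m ⊕ Fin m) F) : Mat) - 1) *ᵥ v) = 0) → s < m →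
          Nat.card (OmegaCent Q y) * (Fintype.card F ^ (2 * m - s) + Fintype.card F ^ m) =
            Nat.card (Subgroup.centralizer ({x'} : Set (Matrix.symplecticGroup (Fin m) F)))) ∧
        ((∀ v, Cfsg.quadFormPlus m F ((((y : GL (Fin m ⊕ Fin m) F) : Mat) - 1) *ᵥ v) = 0) → s = m →
          Nat.card (OmegaCent Q y) * Fintype.card F ^ m =
            Nat.card (Subgroup.centralizer ({x'} : Set (Matrix.symplecticGroup (Fin m) F)))) := by
    rintro _ rfl y hy hys
    exact natCard_omega_centralizer_aux hexc y hy hys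
  exact key _ (coe_plusQ m).symm x hx hs

end CfsgLib.UnipotentForms.OrthTwoCent
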