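import Cfsg.Agent.UnipotentForms.Models
import Cfsg.Agent.UnipotentJordan.Count
import Cfsg.Agent.FormDiscr.Basic

/-!
The block diagonal part of an invariant form is a complete invariant up to congruence.
-/

set_option autoImplicit false

namespace CfsgLib.UnipotentForms

open Finset Matrix CfsgLib.UnipotentJordan

variable {F : Type*} [Field F] {t : ℕ} {d : Fin t → ℕ}

/-- The pairings between blocks of the same size. -/
def bd (d : Fin t → ℕ) (H : Matrix (JI d) (JI d) F) : Matrix (Fin t) (Fin t) F :=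
  Matrix.of fun l k => if d l = d k then corner d H l k else 0

theorem bd_mem (H : Matrix (JI d) (JI d) F) : bd d H ∈ blk d F := fun l k h => by simp [bd, h]

/-- The component of one size. -/
def comp (d : Fin t → ℕ) (M : Matrix (Fin t) (Fin t) F) (j : ℕ) :
    Matrix {k // d k = j} {k // d k = j} F :=
  M.submatrix Subtype.val Subtype.val

theorem comp_mul {M : Matrix (Fin t) (Fin t) F} (hM : M ∈ blk d F) (N : Matrix (Fin t) (Fin t) F) (j : ℕ) :
    comp d (M * N) j = comp d M j * comp d N j := by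
  ext a b
  simp only [comp, Matrix.submatrix_apply, Matrix.mul_apply]
  refine (Finset.sum_subset_zero_on_sdiff (Finset.subset_univ
    (Finset.univ.filter fun k => d k = j)) ?_ (fun _ _ => rfl)).symm.trans ?_
  · intro k hk
    have : d k ≠ j := by simpa using hk
    rw [hM a.1 k (fun e => this (e ▸ a.2)), zero_mul]
  · exact Finset.sum_subtype _ (fun x => by simp) _

theorem comp_one (j : ℕ) : comp d (1 : Matrix (Fin t) (Fin t) F) j = 1 := by
  ext a b
  simp [comp, Matrix.one_apply, Subtype.ext_iff]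

theorem comp_transpose (M : Matrix (Fin t) (Fin t) F) (j : ℕ) : comp d Mᵀ j = (comp d M j)ᵀ := rfl

theorem blk_ext {M N : Matrix (Fin t) (Fin t) F} (hM : M ∈ blk d F) (hN : N ∈ blk d F)
    (h : ∀ j, comp d M j = comp d N j) : M = N := by
  ext l k
  by_cases hlk : d l = d k
  · exact congrFun (congrFun (h (d l)) ⟨l, rfl⟩) ⟨k, hlk.symm⟩
  · rw [hM l k hlk, hN l k hlk]

theorem transpose_mem_blk {M : Matrix (Fin t) (Fin t) F} (hM : M ∈ blk d F) : Mᵀ ∈ blk d F :=
  fun l k h => hM k l (Ne.symm h)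

/-- Assembling components. -/
def glue (d : Fin t → ℕ) (N : (j : ℕ) → Matrix {k // d k = j} {k // d k = j} F) :
    Matrix (Fin t) (Fin t) F :=
  Matrix.of fun l k => if h : d l = d k then N (d l) ⟨l, rfl⟩ ⟨k, h.symm⟩ else 0

theorem glue_mem (N : (j : ℕ) → Matrix {k // d k = j} {k // d k = j} F) : glue d N ∈ blk d F :=
  fun l k h => by simp [glue, h]

theorem comp_glue (N : (j : ℕ) → Matrix {k // d k = j} {k // d k = j} F) (j : ℕ) :
    comp d (glue d N) j = N j := by
  ext ⟨a, ha⟩ ⟨b, hb⟩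
  subst ha
  simp only [comp, glue, Matrix.submatrix_apply, Matrix.of_apply]
  rw [dif_pos hb.symm]

theorem isUnit_glue {N : (j : ℕ) → Matrix {k // d k = j} {k // d k = j} F} (h : ∀ j, IsUnit (N j)) :
    IsUnit (glue d N) := by
  choose u hu using h
  refine isUnit_iff_exists.2 ⟨glue d fun j => ((u j)⁻¹ : (Matrix {k // d k = j} {k // d k = j} F)ˣ), ?_, ?_⟩ <;>
    refine blk_ext (mul_mem (glue_mem _) (glue_mem _)) (one_mem _) fun j => ?_ <;>
    rw [comp_mul (glue_mem _), comp_glue, comp_glue, comp_one, ← hu]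
  · exact (u j).mul_inv
  · exact (u j).inv_mul

theorem isUnit_comp [Finite F] {M : Matrix (Fin t) (Fin t) F} (hM : M ∈ blk d F) (hu : IsUnit M) (j : ℕ) :
    IsUnit (comp d M j) := by
  obtain ⟨u, hu'⟩ := subring_isUnit (blk d F) (x := ⟨M, hM⟩) hu
  have h1 : (u : blk d F).1 = M := congrArg Subtype.val hu'
  refine isUnit_iff_exists.2 ⟨comp d ((u⁻¹ : (blk d F)ˣ) : blk d F).1 j, ?_, ?_⟩
  · rw [← comp_mul hM, ← h1, ← Subring.coe_mul, Units.mul_inv]; exact comp_one j
  · rw [← comp_mul ((u⁻¹ : (blk d F)ˣ) : blk d F).2, ← h1, ← Subring.coe_mul, Units.inv_mul]; exact comp_one j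

theorem sum_JI_eq (f : JI d → F) (pos : (m : Fin t) → Fin (d m))
    (hf : ∀ m x, x ≠ pos m → f ⟨m, x⟩ = 0) : ∑ p, f p = ∑ m, f ⟨m, pos m⟩ := by
  rw [← Finset.univ_sigma_univ, Finset.sum_sigma]
  refine Finset.sum_congr rfl fun m _ => ?_
  exact Finset.sum_eq_single (pos m) (fun x _ hx => hf m x hx) (by simp)

theorem transpose_ent {H : Matrix (JI d) (JI d) F} (hT : Hᵀ = -H) (l : Fin t) (a : ℕ) (k : Fin t) (b : ℕ) :
    ent d H l a k b = -ent d H k b l a := by
  unfold ent
  by_cases h : a < d l ∧ b < d k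
  · rw [dif_pos h, dif_pos h.symm]
    have := congrFun (congrFun hT ⟨k, ⟨b, h.2⟩⟩) ⟨l, ⟨a, h.1⟩⟩
    simpa using this
  · rw [dif_neg h, dif_neg (fun h' => h h'.symm), neg_zero]

section

variable {H : Matrix (JI d) (JI d) F}
  (hinv : (1 + shiftMat d F)ᵀ * H * (1 + shiftMat d F) = H) (hT : Hᵀ = -H)
include hinv hT

theorem bd_symm (hd : ∀ k, 1 ≤ d k) (l k : Fin t) : bd d H k l = (-1) ^ d l * bd d H l k := by
  simp only [bd, Matrix.of_apply]
  by_cases h : d l = d k
  · rw [if_pos h, if_pos h.symm]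
    simp only [corner, Matrix.of_apply]
    have h1 := ent_eq_pow hinv k l (d l - 1) 0 (by have := hd l; omega)
    rw [zero_add] at h1
    rw [h1, transpose_ent hT, show d k - 1 = d l - 1 by omega]
    obtain ⟨j, hj⟩ : ∃ j, d l = j + 1 := ⟨d l - 1, by have := hd l; omega⟩
    rw [hj, Nat.add_sub_cancel, pow_succ]
    ring
  · rw [if_neg h, if_neg (Ne.symm h), mul_zero]

theorem isUnit_bd (hd : ∀ k, 1 ≤ d k) (hH : IsUnit H) : IsUnit (bd d H) := by
  rw [Matrix.isUnit_iff_isUnit_det, isUnit_iff_ne_zero, ← Matrix.det_transpose]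
  have h1 : (corner d H)ᵀ.BlockTriangular d := by
    intro a b hab
    show ent d H b 0 a (d a - 1) = 0
    exact ent_eq_zero_of_le hinv b a _ _ (by omega)
  have h2 : (bd d H)ᵀ.BlockTriangular d := by
    intro a b hab
    show bd d H b a = 0
    exact bd_mem H b a (by omega)
  have hdet := det_corner_ne_zero hinv hd hH
  rw [← Matrix.det_transpose, h1.det] at hdet
  rw [h2.det]
  refine fun e => hdet (Eq.trans (Finset.prod_congr rfl fun j _ => ?_) e)
  congr 1
  ext ⟨a, ha⟩ ⟨b, hb⟩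
  show corner d H b a = bd d H b a
  simp [bd, ha, hb]

omit hT in
theorem bd_mul (hd : ∀ k, 1 ≤ d k) {h : Matrix (JI d) (JI d) F} (hh : h ∈ commutant d F) :
    bd d (H * h) = bd d H * lead d h := by
  ext l k
  rw [Matrix.mul_apply]
  by_cases hlk : d l = d k
  swap
  · simp only [bd, Matrix.of_apply, if_neg hlk]
    symm
    refine Finset.sum_eq_zero fun m _ => ?_
    by_cases hm : d l = d m
    · rw [show lead d h m k = 0 from lead_mem h m k (hm ▸ hlk), mul_zero]
    · rw [if_neg hm, zero_mul]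
  simp only [bd, corner, Matrix.of_apply, if_pos hlk]
  have hdk := hd k
  rw [ent, dif_pos ⟨hd l, by omega⟩, Matrix.mul_apply,
    sum_JI_eq _ (fun m => (⟨d m - 1, by have := hd m; omega⟩ : Fin (d m))) ?_]
  · refine Finset.sum_congr rfl fun m _ => ?_
    have hv := ent_val h ⟨m, ⟨d m - 1, by have := hd m; omega⟩⟩ ⟨k, ⟨d k - 1, by omega⟩⟩
    simp only at hv
    rw [← hv, ent_commutant hh m k _ _ (by have := hd m; omega) (by omega)]
    by_cases hm : d l = d m
    · rw [if_pos hm, if_pos (by omega)]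
      simp only [lead, Matrix.of_apply]
      rw [if_pos (hm.symm.trans hlk), show d m - 1 - (d k - 1) = 0 by omega]
      simp only [ent, dif_pos (⟨hd l, by have := hd m; omega⟩ : 0 < d l ∧ d m - 1 < d m)]
    · rw [if_neg hm, zero_mul]
      by_cases hle : d k - 1 ≤ d m - 1
      · have h0 := ent_eq_zero_of_le hinv l m (d m - 1) 0 (by have := hd m; omega)
        rw [ent, dif_pos ⟨hd l, by have := hd m; omega⟩] at h0
        rw [h0, zero_mul]
      · rw [if_neg hle, mul_zero]
  · intro m x hx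
    have hx' : (x : ℕ) ≠ d m - 1 := fun e => hx (Fin.ext e)
    have hv := ent_val h ⟨m, x⟩ ⟨k, ⟨d k - 1, by omega⟩⟩
    simp only at hv
    rw [← hv, ent_commutant hh m k _ _ x.isLt (by omega)]
    by_cases hle : d k - 1 ≤ (x : ℕ)
    · rw [if_pos hle]
      by_cases h0 : d l ≤ (x : ℕ)
      · have h1 := ent_eq_zero_of_le hinv l m x 0 (by omega)
        rw [ent, dif_pos ⟨hd l, x.isLt⟩] at h1
        rw [h1, zero_mul]
      · rw [ent_commutant_zero hh m k (i := (x : ℕ) - (d k - 1)) (by omega), mul_zero]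
    · rw [if_neg hle, mul_zero]

theorem bd_congr (hd : ∀ k, 1 ≤ d k) {c : Matrix (JI d) (JI d) F} (hc : c ∈ commutant d F) :
    bd d (cᵀ * H * c) = (lead d c)ᵀ * bd d H * lead d c := by
  rw [mul_assoc, mul_assoc, ← bd_mul hinv hd hc]
  set G := H * c
  -- `cᵀ G` is the transpose of `-(H' c)` for `H' = Gᵀ`-rows; compute directly
  ext l k
  rw [Matrix.mul_apply]
  by_cases hlk : d l = d k
  swap
  · simp only [bd, Matrix.of_apply, if_neg hlk]
    symm
    refine Finset.sum_eq_zero fun m _ => ?_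
    simp only [Matrix.transpose_apply]
    by_cases hm : d m = d l
    · rw [if_neg (fun e => hlk (hm.symm.trans e)), mul_zero]
    · rw [show lead d c m l = 0 from lead_mem c m l hm, zero_mul]
  simp only [bd, corner, Matrix.of_apply, if_pos hlk, Matrix.transpose_apply]
  have hdk := hd k
  rw [ent, dif_pos ⟨hd l, by omega⟩, Matrix.mul_apply,
    sum_JI_eq _ (fun m => (⟨0, hd m⟩ : Fin (d m))) ?_]
  · refine Finset.sum_congr rfl fun m _ => ?_
    simp only [Matrix.transpose_apply]
    have hv := ent_val c ⟨m, ⟨0, hd m⟩⟩ ⟨l, ⟨0, hd l⟩⟩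
    simp only at hv
    rw [← hv]
    by_cases hm : d m = d l
    · simp only [lead, Matrix.of_apply]
      rw [if_pos hm, if_pos (hm.trans hlk), ent, ent, dif_pos ⟨hd m, hd l⟩, dif_pos ⟨hd m, by omega⟩]
    · simp only [lead, Matrix.of_apply]
      rw [if_neg hm, zero_mul]
      rcases Nat.lt_or_ge (d l) (d m) with h1 | h1
      · rw [ent_commutant_zero hc m l (i := 0) (by omega), zero_mul]
      · refine mul_eq_zero_of_right _ ?_
        simp only [G, Matrix.mul_apply]
        refine Finset.sum_eq_zero fun r _ => ?_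
        obtain ⟨u, x⟩ := r
        have hvr := ent_val c ⟨u, x⟩ ⟨k, ⟨d k - 1, by omega⟩⟩
        simp only at hvr
        rw [← hvr, ent_commutant hc u k _ _ x.isLt (by omega)]
        by_cases hle : d k - 1 ≤ (x : ℕ)
        · have h0 := ent_eq_zero_of_le hinv m u x 0 (by omega)
          rw [ent, dif_pos ⟨hd m, x.isLt⟩] at h0
          rw [h0, zero_mul]
        · rw [if_neg hle, mul_zero]
  · intro m x hx
    have hx' : (x : ℕ) ≠ 0 := fun e => hx (Fin.ext e)
    simp only [Matrix.transpose_apply, G]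
    have hv := ent_val c ⟨m, x⟩ ⟨l, ⟨0, hd l⟩⟩
    simp only at hv
    rw [← hv]
    by_cases hz : (x : ℕ) + d l < d m
    · rw [ent_commutant_zero hc m l hz, zero_mul]
    refine mul_eq_zero_of_right _ ?_
    rw [Matrix.mul_apply]
    refine Finset.sum_eq_zero fun r _ => ?_
    obtain ⟨u, y⟩ := r
    have hvr := ent_val c ⟨u, y⟩ ⟨k, ⟨d k - 1, by omega⟩⟩
    simp only at hvr
    rw [← hvr, ent_commutant hc u k _ _ y.isLt (by omega)]
    by_cases hle : d k - 1 ≤ (y : ℕ)
    · by_cases hu : d u ≤ (y : ℕ) + x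
      · have h0 := ent_eq_zero_of_le hinv u m x y hu
        rw [← neg_eq_zero, ← transpose_ent hT m x u y, ent, dif_pos ⟨x.isLt, y.isLt⟩] at h0
        rw [show H ⟨m, x⟩ ⟨u, y⟩ = 0 from h0, zero_mul]
      · rw [if_pos hle, ent_commutant_zero hc u k (i := (y : ℕ) - (d k - 1)) (by omega), mul_zero]
    · rw [if_neg hle, mul_zero]

/-- Forms with the same block diagonal part are congruent under the commutant. -/
theorem exists_congr_of_bd_eq [Fintype F] (h2 : (2 : F) ≠ 0) (hd : ∀ k, 1 ≤ d k) (hH : IsUnit H)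
    {G : Matrix (JI d) (JI d) F} (hGinv : (1 + shiftMat d F)ᵀ * G * (1 + shiftMat d F) = G) (hGT : Gᵀ = -G)
    (hbd : bd d H = bd d G) :
    ∃ c ∈ commutant d F, cᵀ * H * c = G := by
  classical
  obtain ⟨p, hp⟩ := CharP.exists F
  haveI := hp
  haveI : Fact p.Prime := ⟨(CharP.char_is_prime_or_zero F p).resolve_right (CharP.char_ne_zero_of_finite F p)⟩
  rcases isEmpty_or_nonempty (JI d) with he | he
  · exact ⟨1, one_mem _, Subsingleton.elim _ _⟩
  obtain ⟨u, hu⟩ := hH
  obtain ⟨v, hv⟩ := (isNilpotent_shiftMat (K := F) hd).isUnit_one_add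
  set h : Matrix (JI d) (JI d) F := ((u⁻¹ : (Matrix (JI d) (JI d) F)ˣ) : Matrix (JI d) (JI d) F) * G with hh
  have hHh : H * h = G := by rw [hh, ← hu, Units.mul_inv_cancel_left]
  have hcomm : h ∈ commutant d F := by
    rw [mem_commutant_iff]
    suffices (v : Matrix (JI d) (JI d) F) * h = h * v by
      rw [hv, add_mul, mul_add, one_mul, mul_one] at this
      exact add_left_cancel this
    have h3 : (v : Matrix (JI d) (JI d) F)ᵀ * H * (v : Matrix (JI d) (JI d) F) = H := hv ▸ hinv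
    have h4 : (v : Matrix (JI d) (JI d) F)ᵀ * (H * h) * (v : Matrix (JI d) (JI d) F) = H * h := by
      rw [hHh]; exact hv ▸ hGinv
    have h5 : ((v : Matrix (JI d) (JI d) F)ᵀ * H) * (h * v) =
        ((v : Matrix (JI d) (JI d) F)ᵀ * H) * (v * h) := by
      rw [← mul_assoc ((v : Matrix (JI d) (JI d) F)ᵀ * H) (v : Matrix (JI d) (JI d) F), h3,
        ← mul_assoc, mul_assoc _ H h, h4]
    have hunit : IsUnit ((v : Matrix (JI d) (JI d) F)ᵀ * H) :=
      ((Matrix.isUnit_transpose _).2 v.isUnit).mul (hu ▸ u.isUnit)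
    exact (hunit.mul_left_cancel h5).symm
  have hlead : lead d h = 1 := by
    have h1 := bd_mul hinv hd hcomm
    rw [hHh, ← hbd] at h1
    exact (isUnit_bd hinv hT hd (hu ▸ u.isUnit)).mul_left_cancel (by rw [mul_one]; exact h1.symm)
  obtain ⟨N, hN⟩ := isNilpotent_of_lead_eq_zero (sub_mem hcomm (one_mem _))
    (show lead d (h - 1) = 0 by rw [lead_sub, hlead, lead_one hd, sub_self])
  have hone : h ^ p ^ N = 1 := by
    rw [← sub_eq_zero, ← one_pow (p ^ N), ← sub_pow_char_pow_of_commute p N (Commute.one_right h)]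
    exact pow_eq_zero_of_le (Nat.le_of_lt (Nat.lt_pow_self (Fact.out : p.Prime).one_lt)) hN
  have hp2 : p ≠ 2 := fun e => h2 (by subst e; exact CharTwo.two_eq_zero)
  obtain ⟨r, hr⟩ : ∃ r, p ^ N = 2 * r + 1 := ((Fact.out : p.Prime).odd_of_ne_two hp2).pow
  have hself : hᵀ * H = H * h := by
    have := congrArg Matrix.transpose hHh
    rw [Matrix.transpose_mul, hT, hGT, mul_neg, neg_inj] at this
    rw [this, hHh]
  have hpow : ∀ n : ℕ, (h ^ n)ᵀ * H = H * h ^ n := by
    intro n
    induction n with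
    | zero => simp
    | succ n ih => rw [pow_succ', Matrix.transpose_mul, mul_assoc, hself, ← mul_assoc, ih, mul_assoc, ← pow_succ, pow_succ']
  refine ⟨h ^ (r + 1), pow_mem hcomm _, ?_⟩
  rw [hpow, mul_assoc, ← pow_add, show r + 1 + (r + 1) = p ^ N + 1 by omega, pow_add, hone, one_mul, pow_one, hHh]

end

end CfsgLib.UnipotentForms
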