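import Cfsg.Agent.UnipotentForms.Necessity
import Cfsg.Agent.UnipotentJordan.Classify

/-!
Forms invariant under unipotent matrices of every admissible Jordan type.
-/

set_option autoImplicit false

namespace CfsgLib.UnipotentForms

open Finset Matrix CfsgLib.UnipotentJordan

variable {F : Type*} [Field F]

/-- An invertible matrix of a symmetric (`ε = 1`) or alternating (`ε = -1`) form. -/
def IsForm {ι : Type*} [Fintype ι] [DecidableEq ι] (ε : F) (H : Matrix ι ι F) : Prop :=
  Hᵀ = ε • H ∧ (ε = -1 → ∀ p, H p p = 0) ∧ IsUnit H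

theorem dotProduct_self_eq_zero {ι : Type*} [Fintype ι] {H : Matrix ι ι F} (hT : Hᵀ = -H)
    (hd : ∀ p, H p p = 0) (v : ι → F) : v ⬝ᵥ H *ᵥ v = 0 := by
  classical
  have hskew : ∀ a b, H a b = -H b a := fun a b => by
    have := congrFun (congrFun hT b) a
    simpa using this
  have hsum : ∀ s : Finset ι, ∑ a ∈ s, ∑ b ∈ s, v a * (H a b * v b) = 0 := by
    intro s
    induction s using Finset.induction_on with
    | empty => simp
    | insert z s hz ih =>
      simp only [Finset.sum_insert hz, Finset.sum_add_distrib, ih, add_zero, hd, zero_mul, mul_zero, zero_add]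
      rw [← Finset.sum_add_distrib]
      refine Finset.sum_eq_zero fun x _ => ?_
      rw [hskew x z]; ring
  simpa [Matrix.mulVec, dotProduct, Finset.mul_sum] using hsum Finset.univ

theorem IsForm.congr {ι : Type*} [Fintype ι] [DecidableEq ι] {ε : F} {H : Matrix ι ι F} (h : IsForm ε H)
    {c : Matrix ι ι F} (hc : IsUnit c) : IsForm ε (cᵀ * H * c) := by
  refine ⟨?_, fun he p => ?_, ((Matrix.isUnit_transpose c).2 hc |>.mul h.2.2).mul hc⟩
  · rw [Matrix.transpose_mul, Matrix.transpose_mul, Matrix.transpose_transpose, h.1]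
    simp [Matrix.mul_smul, Matrix.smul_mul, mul_assoc]
  · have := dotProduct_self_eq_zero (H := H) (by rw [h.1, he]; simp) (h.2.1 he) (fun a => c a p)
    rw [mul_assoc, Matrix.mul_apply]
    simpa [dotProduct, Matrix.mulVec, Matrix.mul_apply] using this

theorem IsForm.reindex {ι κ : Type*} [Fintype ι] [DecidableEq ι] [Fintype κ] [DecidableEq κ] {ε : F}
    {H : Matrix ι ι F} (h : IsForm ε H) (e : ι ≃ κ) : IsForm ε (Matrix.reindex e e H) := by
  refine ⟨?_, fun he p => h.2.1 he _, h.2.2.map (Matrix.reindexAlgEquiv F F e)⟩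
  rw [Matrix.transpose_reindex, h.1]
  rfl

theorem isometry_reindex {ι κ : Type*} [Fintype ι] [DecidableEq ι] [Fintype κ] [DecidableEq κ] (e : ι ≃ κ)
    {H U : Matrix ι ι F} (h : Uᵀ * H * U = H) :
    (Matrix.reindex e e U)ᵀ * Matrix.reindex e e H * Matrix.reindex e e U = Matrix.reindex e e H := by
  rw [Matrix.transpose_reindex, ← Matrix.coe_reindexAlgEquiv F F, ← map_mul, ← map_mul, h]

theorem rank_fromBlocks {m n : Type*} [Fintype m] [Fintype n] [DecidableEq m] [DecidableEq n]
    (A : Matrix m m F) (B : Matrix n n F) : (Matrix.fromBlocks A 0 0 B).rank = A.rank + B.rank := by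
  have h : (Matrix.fromBlocks A 0 0 B).mulVecLin =
      (LinearEquiv.sumArrowLequivProdArrow m n F F).symm.toLinearMap ∘ₗ
        (A.mulVecLin.prodMap B.mulVecLin) ∘ₗ (LinearEquiv.sumArrowLequivProdArrow m n F F).toLinearMap := by
    refine LinearMap.ext fun x => ?_
    funext i
    rcases i with i | i <;>
      simp [Matrix.fromBlocks_mulVec, LinearEquiv.sumArrowLequivProdArrow, Function.comp_def] <;> rfl
  rw [Matrix.rank, Matrix.rank, Matrix.rank, h, LinearMap.range_comp, LinearEquiv.finrank_map_eq,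
    LinearMap.range_comp, LinearEquiv.range, Submodule.map_top, LinearMap.range_prodMap]
  rw [← Module.finrank_prod]
  exact LinearEquiv.finrank_eq
    { toFun := fun x => (⟨x.1.1, x.2.1⟩, ⟨x.1.2, x.2.2⟩)
      invFun := fun x => ⟨(x.1.1, x.2.1), x.1.2, x.2.2⟩
      left_inv := fun x => rfl
      right_inv := fun x => rfl
      map_add' := fun _ _ => rfl
      map_smul' := fun _ _ => rfl }

theorem fromBlocks_diag_pow {m n : Type*} [Fintype m] [Fintype n] [DecidableEq m] [DecidableEq n]
    (A : Matrix m m F) (B : Matrix n n F) :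
    ∀ k : ℕ, (Matrix.fromBlocks A 0 0 B) ^ k = Matrix.fromBlocks (A ^ k) 0 0 (B ^ k)
  | 0 => by simp
  | k + 1 => by rw [pow_succ, fromBlocks_diag_pow A B k, Matrix.fromBlocks_multiply]; simp [pow_succ]

theorem fromBlocks_sub' {m n : Type*} (A A' : Matrix m m F) (B B' : Matrix m n F) (C C' : Matrix n m F)
    (D D' : Matrix n n F) : Matrix.fromBlocks A B C D - Matrix.fromBlocks A' B' C' D' =
      Matrix.fromBlocks (A - A') (B - B') (C - C') (D - D') := by
  ext (i | i) (j | j) <;> rfl

variable (F) in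
/-- The block sizes `μ` occur in the isometry group of a form of sign `ε`. -/
def Occ (ε : F) (μ : Multiset ℕ) : Prop :=
  ∃ (n : ℕ) (H U : Matrix (Fin n) (Fin n) F), IsForm ε H ∧ Uᵀ * H * U = H ∧
    IsNilpotent (U - 1) ∧ ∀ k, ((U - 1) ^ k).rank = (μ.map fun j => j - k).sum

theorem occ_of {ι : Type*} [Fintype ι] [DecidableEq ι] {ε : F} {μ : Multiset ℕ} (H U : Matrix ι ι F)
    (hH : IsForm ε H) (hU : Uᵀ * H * U = H) (hn : IsNilpotent (U - 1))
    (hr : ∀ k, ((U - 1) ^ k).rank = (μ.map fun j => j - k).sum) : Occ F ε μ := by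
  set e := Fintype.equivFin ι
  have he : Matrix.reindex e e U - 1 = Matrix.reindex e e (U - 1) := by
    rw [← Matrix.coe_reindexAlgEquiv F F, map_sub, map_one]
  refine ⟨_, _, _, hH.reindex e, isometry_reindex e hU, ?_, fun k => ?_⟩
  · rw [he]; exact hn.map (Matrix.reindexAlgEquiv F F e)
  · rw [he, rank_reindex_pow, hr]

theorem occ_zero (ε : F) : Occ F ε 0 :=
  ⟨0, 1, 1, ⟨Subsingleton.elim _ _, fun _ p => p.elim0, isUnit_one⟩, Subsingleton.elim _ _,
    ⟨1, Subsingleton.elim _ _⟩, fun k => by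
      rw [show (((1 : Matrix (Fin 0) (Fin 0) F) - 1) ^ k) = 0 from Subsingleton.elim _ _]; simp⟩

theorem Occ.add {ε : F} {μ ν : Multiset ℕ} (h : Occ F ε μ) (h' : Occ F ε ν) : Occ F ε (μ + ν) := by
  obtain ⟨m, H, U, hH, hU, ⟨a, ha⟩, hr⟩ := h
  obtain ⟨n, H', U', hH', hU', ⟨b, hb⟩, hr'⟩ := h'
  have hN : Matrix.fromBlocks U 0 0 U' - 1 = Matrix.fromBlocks (U - 1) 0 0 (U' - 1) := by
    rw [← Matrix.fromBlocks_one, fromBlocks_sub']; simp
  refine occ_of (Matrix.fromBlocks H 0 0 H') (Matrix.fromBlocks U 0 0 U') ⟨?_, ?_, ?_⟩ ?_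
    ⟨a + b, ?_⟩ fun k => ?_
  · rw [Matrix.fromBlocks_transpose, hH.1, hH'.1, Matrix.fromBlocks_smul]; simp
  · intro he p
    rcases p with p | p
    · exact hH.2.1 he p
    · exact hH'.2.1 he p
  · obtain ⟨G, hG⟩ := hH.2.2.exists_left_inv
    obtain ⟨G', hG'⟩ := hH'.2.2.exists_left_inv
    refine isUnit_iff_exists.2 ⟨Matrix.fromBlocks G 0 0 G', ?_, ?_⟩ <;>
      simp [Matrix.fromBlocks_multiply, hG, hG', mul_eq_one_comm.1 hG, mul_eq_one_comm.1 hG', Matrix.fromBlocks_one]
  · rw [Matrix.fromBlocks_transpose, Matrix.fromBlocks_multiply, Matrix.fromBlocks_multiply]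
    simp [hU, hU']
  · rw [hN, fromBlocks_diag_pow, pow_eq_zero_of_le (Nat.le_add_right a b) ha,
      pow_eq_zero_of_le (Nat.le_add_left b a) hb, Matrix.fromBlocks_zero]
  · rw [hN, fromBlocks_diag_pow, rank_fromBlocks, hr, hr', Multiset.map_add, Multiset.sum_add]

theorem invariant_of_recurrence {t : ℕ} {d : Fin t → ℕ} (H : Matrix (JI d) (JI d) F)
    (h : ∀ (l k : Fin t) (a b : ℕ), a < d l → b < d k →
      ent d H l (a + 1) k b + ent d H l a k (b + 1) + ent d H l (a + 1) k (b + 1) = 0) :
    (1 + shiftMat d F)ᵀ * H * (1 + shiftMat d F) = H := by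
  ext ⟨l, a⟩ ⟨k, b⟩
  rw [Matrix.transpose_add, Matrix.transpose_one, add_mul, one_mul, mul_add, mul_one, add_mul]
  simp only [Matrix.add_apply]
  rw [transpose_shiftMat_mul_apply, mul_shiftMat_apply]
  have h2 : ((shiftMat d F)ᵀ * H * shiftMat d F) (⟨l, a⟩ : JI d) (⟨k, b⟩ : JI d) =
      ent d H l ((a : ℕ) + 1) k ((b : ℕ) + 1) := by
    rw [mul_shiftMat_apply]
    by_cases hb1 : (b : ℕ) + 1 < d k
    · rw [ent, dif_pos ⟨a.isLt, hb1⟩, transpose_shiftMat_mul_apply]
    · rw [ent_eq_zero _ (by simp; omega), ent_eq_zero _ (by simp; omega)]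
  rw [h2]
  have := h l k a b a.isLt b.isLt
  simp only at this ⊢
  linear_combination this

/-! ### The standard invariant pairing of one block -/

/-- Entries of the pairing, indexed by the distance from the last row and the column. -/
def kf : ℕ → ℕ → ℤ
  | 0, b => if b = 0 then 1 else 0
  | _ + 1, 0 => 0
  | m + 1, b + 1 => -kf m b - kf m (b + 1)

theorem kf_eq_zero : ∀ {m b : ℕ}, m < b → kf m b = 0
  | 0, b, h => by simp [kf]; omega
  | m + 1, b + 1, h => by rw [kf, kf_eq_zero (by omega), kf_eq_zero (by omega)]; simp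

theorem kf_self : ∀ m, kf m m = (-1) ^ m
  | 0 => by simp [kf]
  | m + 1 => by rw [kf, kf_self m, kf_eq_zero (Nat.lt_succ_self m), pow_succ]; ring

/-- The pairing. -/
def kMat (F : Type*) [Field F] (s : ℕ) : Matrix (JI fun _ : Fin 1 => s) (JI fun _ : Fin 1 => s) F :=
  Matrix.of fun p r => (kf (s - 1 - (p.2 : ℕ)) r.2 : F)

theorem one_block_ext {s : ℕ} (p r : JI fun _ : Fin 1 => s) (h : (p.2 : ℕ) = r.2) : p = r := by
  obtain ⟨a, i⟩ := p; obtain ⟨b, j⟩ := r
  obtain rfl : a = b := Subsingleton.elim _ _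
  simp only at h
  simp [Fin.ext h]

theorem kMat_invariant (s : ℕ) :
    (1 + shiftMat (fun _ : Fin 1 => s) F)ᵀ * kMat F s * (1 + shiftMat (fun _ : Fin 1 => s) F) = kMat F s := by
  refine invariant_of_recurrence _ fun l k a b ha hb => ?_
  have ha' : a < s := ha
  have hb' : b < s := hb
  simp only [ent, kMat, Matrix.of_apply]
  by_cases ha1 : a + 1 < s
  · by_cases hb1 : b + 1 < s
    · rw [dif_pos ⟨ha1, hb⟩, dif_pos ⟨ha, hb1⟩, dif_pos ⟨ha1, hb1⟩,
        show s - 1 - a = (s - 1 - (a + 1)) + 1 by omega, kf]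
      push_cast
      ring
    · rw [dif_pos ⟨ha1, hb⟩, dif_neg (fun h => hb1 h.2), dif_neg (fun h => hb1 h.2),
        kf_eq_zero (show s - 1 - (a + 1) < b by omega)]
      simp
  · rw [dif_neg (fun h => ha1 h.1)]
    by_cases hb1 : b + 1 < s
    · rw [dif_pos ⟨ha, hb1⟩, dif_neg (fun h => ha1 h.1), kf_eq_zero (show s - 1 - a < b + 1 by omega)]
      simp
    · rw [dif_neg (fun h => hb1 h.2), dif_neg (fun h => ha1 h.1)]
      simp

theorem isUnit_of_antitriangular {s : ℕ} (M : Matrix (JI fun _ : Fin 1 => s) (JI fun _ : Fin 1 => s) F)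
    (h0 : ∀ p r, s ≤ (p.2 : ℕ) + r.2 → M p r = 0) (h1 : ∀ p r, (p.2 : ℕ) + r.2 + 1 = s → M p r ≠ 0) :
    IsUnit M := by
  rw [Matrix.isUnit_iff_isUnit_det, isUnit_iff_ne_zero]
  intro hdet
  obtain ⟨v, hv, hMv⟩ := Matrix.exists_mulVec_eq_zero_iff.2 hdet
  refine hv (funext fun r => ?_)
  suffices ∀ n (r : JI fun _ : Fin 1 => s), (r.2 : ℕ) < n → v r = 0 from this _ r (Nat.lt_succ_self _)
  intro n
  induction n with
  | zero => intro r h; omega
  | succ n ih =>
    intro r hr
    have hs : (r.2 : ℕ) < s := r.2.isLt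
    have := congrFun hMv ⟨0, ⟨s - 1 - r.2, by show _ < s; omega⟩⟩
    rw [Matrix.mulVec, dotProduct, Finset.sum_eq_single r] at this
    · exact (mul_eq_zero.1 this).resolve_left (h1 _ _ (by simp; omega))
    · intro x _ hx
      rcases Nat.lt_trichotomy (x.2 : ℕ) r.2 with hlt | heq | hgt
      · rw [ih x (by omega), mul_zero]
      · exact absurd (one_block_ext x r heq) hx
      · rw [h0 _ _ (by simp; omega), zero_mul]
    · simp

theorem isUnit_kMat (s : ℕ) : IsUnit (kMat F s) := by
  refine isUnit_of_antitriangular _ (fun p r h => ?_) (fun p r h => ?_)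
  · have : (p.2 : ℕ) < s := p.2.isLt
    simp [kMat, kf_eq_zero (show s - 1 - (p.2 : ℕ) < r.2 by omega)]
  · simp [kMat, show s - 1 - (p.2 : ℕ) = r.2 by omega, kf_self]

/-- Two blocks of the same size in duality. -/
theorem occ_pair {s : ℕ} (hs : 1 ≤ s) {ε : F} (hε : ε * ε = 1) : Occ F ε {s, s} := by
  let d : Fin 1 → ℕ := fun _ => s
  let A := 1 + shiftMat d F
  have hK : Aᵀ * kMat F s * A = kMat F s := kMat_invariant s
  have hK' : Aᵀ * (kMat F s)ᵀ * A = (kMat F s)ᵀ := by
    conv_rhs => rw [← hK, Matrix.transpose_mul, Matrix.transpose_mul, Matrix.transpose_transpose, ← mul_assoc]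
  obtain ⟨G, hG⟩ := (isUnit_kMat (F := F) s).exists_left_inv
  have hGT : (kMat F s)ᵀ * Gᵀ = 1 := by rw [← Matrix.transpose_mul, hG, Matrix.transpose_one]
  refine occ_of (Matrix.fromBlocks 0 (kMat F s) (ε • (kMat F s)ᵀ) 0) (Matrix.fromBlocks A 0 0 A)
    ⟨?_, ?_, ?_⟩ ?_ ⟨s, ?_⟩ fun k => ?_
  · rw [Matrix.fromBlocks_transpose, Matrix.fromBlocks_smul, Matrix.transpose_smul, smul_smul, hε]
    simp
  · intro _ p
    rcases p with p | p <;> rfl
  · refine isUnit_iff_exists.2 ⟨Matrix.fromBlocks 0 (ε • Gᵀ) G 0, ?_, ?_⟩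
    · rw [Matrix.fromBlocks_multiply]
      simp [Matrix.smul_mul, Matrix.mul_smul, smul_smul, hε, hGT, mul_eq_one_comm.1 hG, Matrix.fromBlocks_one]
    · rw [Matrix.fromBlocks_multiply]
      simp [Matrix.smul_mul, Matrix.mul_smul, smul_smul, hε, mul_eq_one_comm.1 hGT, hG, Matrix.fromBlocks_one]
  · rw [Matrix.fromBlocks_transpose, Matrix.fromBlocks_multiply, Matrix.fromBlocks_multiply]
    simp [Matrix.smul_mul, Matrix.mul_smul, hK, hK']
  · rw [← Matrix.fromBlocks_one, fromBlocks_sub']
    simp only [A, add_sub_cancel_left, sub_zero]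
    rw [fromBlocks_diag_pow, shiftMat_pow_eq_zero (fun _ => hs) (fun _ => le_rfl), Matrix.fromBlocks_zero]
  · rw [← Matrix.fromBlocks_one, fromBlocks_sub']
    simp only [A, add_sub_cancel_left, sub_zero]
    rw [fromBlocks_diag_pow, rank_fromBlocks, rank_shiftMat_pow (fun _ => hs)]
    simp [d]

/-- One block of odd size carries a symmetric form in odd characteristic. -/
theorem occ_single_symm (h2 : (2 : F) ≠ 0) {s : ℕ} (hs : Odd s) : Occ F 1 {s} := by
  obtain ⟨i, hi⟩ := hs
  let d : Fin 1 → ℕ := fun _ => s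
  have hd : ∀ k, 1 ≤ d k := fun _ => by show 1 ≤ s; omega
  have hK := kMat_invariant (F := F) s
  refine occ_of (kMat F s + (kMat F s)ᵀ) (1 + shiftMat d F) ⟨?_, ?_, ?_⟩ ?_ ?_ fun k => ?_
  · rw [one_smul, Matrix.transpose_add, Matrix.transpose_transpose, add_comm]
  · intro h
    exact absurd (show (2 : F) = 0 by linear_combination h) h2
  · refine isUnit_of_antitriangular _ (fun p r h => ?_) (fun p r h => ?_)
    · have : (p.2 : ℕ) < s := p.2.isLt
      have : (r.2 : ℕ) < s := r.2.isLt
      simp [kMat, kf_eq_zero (show s - 1 - (p.2 : ℕ) < r.2 by omega),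
        kf_eq_zero (show s - 1 - (r.2 : ℕ) < p.2 by omega)]
    · simp only [kMat, Matrix.add_apply, Matrix.transpose_apply, Matrix.of_apply]
      rw [show s - 1 - (p.2 : ℕ) = r.2 by omega, show s - 1 - (r.2 : ℕ) = p.2 by omega, kf_self, kf_self]
      push_cast
      rw [neg_one_pow_eq_pow_mod_two (p.2 : ℕ), neg_one_pow_eq_pow_mod_two (r.2 : ℕ),
        show (p.2 : ℕ) % 2 = (r.2 : ℕ) % 2 by omega, ← two_mul]
      exact mul_ne_zero h2 (pow_ne_zero _ (neg_ne_zero.2 one_ne_zero))
  · rw [mul_add ((1 + shiftMat d F)ᵀ), add_mul, hK]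
    congr 1
    conv_rhs => rw [← hK, Matrix.transpose_mul, Matrix.transpose_mul, Matrix.transpose_transpose, ← mul_assoc]
  · simpa using isNilpotent_shiftMat (K := F) hd
  · rw [add_sub_cancel_left, rank_shiftMat_pow hd]; simp [d]

theorem rank_pow_of_single {n : ℕ} {A : Matrix (Fin n) (Fin n) F} (hn : 1 ≤ n) (hnil : IsNilpotent A)
    (hr : n - 1 ≤ A.rank) (k : ℕ) : (A ^ k).rank = n - k := by
  obtain ⟨L, d, e, hd, he⟩ := exists_type hnil
  have hrk : ∀ k, (A ^ k).rank = ∑ i, (d i - k) := fun k => by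
    rw [← rank_pow_eq_of_isConj he k, rank_reindex_pow, rank_shiftMat_pow hd]
  have hsum : ∑ i, d i = n := by simpa using Fintype.card_congr e
  have h1 := hrk 1
  rw [pow_one] at h1
  rw [h1, Finset.sum_tsub_distrib _ (fun i _ => hd i)] at hr
  simp only [Finset.sum_const, Finset.card_univ, Fintype.card_fin, smul_eq_mul, mul_one] at hr
  have hL : L ≤ n := hsum ▸ (by simpa using Finset.sum_le_sum (s := Finset.univ) fun i _ => hd i)
  have hL0 : L ≠ 0 := by
    rintro rfl
    simp at hsum
    omega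
  obtain rfl : L = 1 := by omega
  rw [Fin.sum_univ_one] at hsum
  rw [hrk, Fin.sum_univ_one, hsum]

/-- One block of even size carries an alternating form. -/
theorem occ_single_alt {k : ℕ} (hk : 1 ≤ k) : Occ F (-1 : F) {2 * k} := by
  let d : Fin 1 → ℕ := fun _ => k
  have hd : ∀ i, 1 ≤ d i := fun _ => hk
  let N := shiftMat d F
  let A := 1 + N
  obtain ⟨Au, hAu⟩ := (isNilpotent_shiftMat (K := F) hd).isUnit_one_add
  let B : Matrix (JI d) (JI d) F := ((Au⁻¹ : (Matrix (JI d) (JI d) F)ˣ) : Matrix (JI d) (JI d) F)ᵀ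
  have hB : Aᵀ * B = 1 := by
    rw [← Matrix.transpose_mul, show A = (Au : Matrix (JI d) (JI d) F) from hAu.symm, Units.inv_mul,
      Matrix.transpose_one]
  have hBA : Bᵀ * A = 1 := by
    rw [Matrix.transpose_transpose, show A = (Au : Matrix (JI d) (JI d) F) from hAu.symm, Units.inv_mul]
  let z : JI d := ⟨0, ⟨0, hk⟩⟩
  let C : Matrix (JI d) (JI d) F := A * Matrix.single z z 1
  let U := Matrix.fromBlocks A C 0 B
  let H : Matrix (JI d ⊕ JI d) (JI d ⊕ JI d) F := Matrix.fromBlocks 0 1 (-1) 0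
  have hU : Uᵀ * H * U = H := by
    simp only [U, H]
    rw [Matrix.fromBlocks_transpose, Matrix.fromBlocks_multiply, Matrix.fromBlocks_multiply]
    have h1 : Cᵀ * B = Matrix.single z z 1 := by
      simp only [C]
      rw [Matrix.transpose_mul, mul_assoc, hB, mul_one, Matrix.transpose_single]
    have h2 : Bᵀ * C = Matrix.single z z 1 := by
      simp only [C]
      rw [← mul_assoc, hBA, one_mul]
    simp [hB, hBA, h1, h2]
  have hN : IsNilpotent (U - 1) := by
    obtain ⟨a, ha⟩ := isNilpotent_shiftMat (K := F) hd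
    have hBn : IsNilpotent (B - 1) := by
      have hAn : IsNilpotent ((1 - A) * ((Au⁻¹ : (Matrix (JI d) (JI d) F)ˣ) : Matrix (JI d) (JI d) F)) := by
        refine Commute.isNilpotent_mul_right ?_ ?_
        · refine Commute.units_inv_right ?_
          rw [hAu]
          exact (Commute.one_left _).sub_left (Commute.refl _)
        · simp only [A, sub_add_cancel_left]
          exact (isNilpotent_shiftMat (K := F) hd).neg
      have h1 : B - 1 = ((1 - A) * ((Au⁻¹ : (Matrix (JI d) (JI d) F)ˣ) : Matrix (JI d) (JI d) F))ᵀ := by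
        rw [sub_mul, one_mul, show A = (Au : Matrix (JI d) (JI d) F) from hAu.symm, Units.mul_inv,
          Matrix.transpose_sub, Matrix.transpose_one]
      obtain ⟨c, hc⟩ := hAn
      exact ⟨c, by rw [h1, ← Matrix.transpose_pow, hc, Matrix.transpose_zero]⟩
    obtain ⟨b, hb⟩ := hBn
    have hUe : U - 1 = Matrix.fromBlocks N C 0 (B - 1) := by
      simp only [U]; rw [← Matrix.fromBlocks_one, fromBlocks_sub']; simp [A]
    have hpow : ∀ j, ∃ X, (U - 1) ^ j = Matrix.fromBlocks (N ^ j) X 0 ((B - 1) ^ j) := by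
      intro j
      induction j with
      | zero => exact ⟨0, by simp⟩
      | succ j ih =>
        obtain ⟨X, hX⟩ := ih
        exact ⟨N ^ j * C + X * (B - 1), by
          rw [pow_succ, hX, hUe, Matrix.fromBlocks_multiply]; simp [pow_succ]⟩
    obtain ⟨X, hX⟩ := hpow (a + b)
    refine ⟨(a + b) + (a + b), ?_⟩
    rw [pow_add, hX, pow_eq_zero_of_le (Nat.le_add_right a b) ha, pow_eq_zero_of_le (Nat.le_add_left b a) hb,
      Matrix.fromBlocks_multiply]
    simp
  have hker : Module.finrank F (LinearMap.ker (U - 1).mulVecLin) ≤ 1 := by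
    let w : JI d := ⟨0, ⟨k - 1, by show _ < k; omega⟩⟩
    have hle : LinearMap.ker (U - 1).mulVecLin ≤
        Submodule.span F {Sum.elim (Pi.single w (1 : F)) (0 : JI d → F)} := by
      intro v hv
      rw [LinearMap.mem_ker, Matrix.mulVecLin_apply] at hv
      have hUe : U - 1 = Matrix.fromBlocks N C 0 (B - 1) := by
        simp only [U]; rw [← Matrix.fromBlocks_one, fromBlocks_sub']; simp [A]
      rw [hUe, Matrix.fromBlocks_mulVec] at hv
      set x := v ∘ Sum.inl
      set y := v ∘ Sum.inr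
      have hy : (B - 1) *ᵥ y = 0 := by
        funext i; simpa using congrFun hv (Sum.inr i)
      have hx : N *ᵥ x + C *ᵥ y = 0 := by
        funext i; simpa using congrFun hv (Sum.inl i)
      have hNy : Nᵀ *ᵥ y = 0 := by
        have h1 : B *ᵥ y = y := by rwa [Matrix.sub_mulVec, Matrix.one_mulVec, sub_eq_zero] at hy
        have h2 : Aᵀ *ᵥ y = y := by
          conv_lhs => rw [← h1, Matrix.mulVec_mulVec, hB, Matrix.one_mulVec]
        simpa [A, Matrix.add_mulVec] using h2
      have hy' : ∀ p : JI d, (p.2 : ℕ) ≠ 0 → y p = 0 := by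
        intro p hp
        have hq : (p.2 : ℕ) - 1 < d p.1 := by have := p.2.isLt; omega
        have h := congrFun hNy ⟨p.1, ⟨(p.2 : ℕ) - 1, hq⟩⟩
        rw [Matrix.mulVec, dotProduct, Finset.sum_eq_single p] at h
        · have hone : N p ⟨p.1, ⟨(p.2 : ℕ) - 1, hq⟩⟩ = 1 := by
            simp only [N, shiftMat, Matrix.of_apply]
            rw [if_pos ⟨trivial, by omega⟩]
          rw [Matrix.transpose_apply, hone, one_mul] at h
          simpa using h
        · intro q _ hne
          simp only [N, Matrix.transpose_apply, shiftMat, Matrix.of_apply]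
          rw [if_neg, zero_mul]
          rintro ⟨-, h'⟩
          exact hne (one_block_ext q p (by first | omega | (simp at h'; omega)))
        · simp
      have hNrow : ∀ v' : JI d → F, (N *ᵥ v') z = 0 := by
        intro v'
        rw [Matrix.mulVec, dotProduct]
        exact Finset.sum_eq_zero fun q _ => by simp [N, shiftMat, z]
      have hCy : C *ᵥ y = y z • (A *ᵥ Pi.single z 1) := by
        simp only [C]
        rw [← Matrix.mulVec_mulVec, ← Matrix.mulVec_smul]
        congr 1
        funext i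
        rw [Matrix.single_mulVec]
        by_cases hi : i = z <;> simp [hi, Pi.single_apply]
      have hyz : y z = 0 := by
        have h := congrFun hx z
        rw [Pi.add_apply, hNrow, zero_add, hCy, Pi.smul_apply, smul_eq_mul] at h
        simp only [A, Matrix.add_mulVec, Matrix.one_mulVec, Pi.add_apply, hNrow, Pi.single_eq_same,
          add_zero, mul_one] at h
        simpa using h
      have hy0 : y = 0 := by
        funext p
        by_cases hp : (p.2 : ℕ) = 0
        · rw [one_block_ext p z (by simp [hp, z])]; exact hyz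
        · exact hy' p hp
      rw [hy0, Matrix.mulVec_zero, add_zero] at hx
      have hx' : ∀ p : JI d, (p.2 : ℕ) + 1 < k → x p = 0 := by
        intro p hp
        have hq : (p.2 : ℕ) + 1 < d p.1 := hp
        have h := congrFun hx ⟨p.1, ⟨(p.2 : ℕ) + 1, hq⟩⟩
        rw [Matrix.mulVec, dotProduct, Finset.sum_eq_single p] at h
        · simpa [N, shiftMat] using h
        · intro q _ hne
          simp only [N, shiftMat, Matrix.of_apply]
          rw [if_neg, zero_mul]
          rintro ⟨-, h'⟩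
          exact hne (one_block_ext q p (by first | omega | (simp at h'; omega)))
        · simp
      refine Submodule.mem_span_singleton.2 ⟨x w, funext fun i => ?_⟩
      rcases i with i | i
      · show x w * _ = x i
        by_cases hi : (i.2 : ℕ) + 1 < k
        · rw [hx' i hi]
          have hne : i ≠ w := fun e => by rw [e] at hi; simp [w] at hi; omega
          simp [hne]
        · have : i = w := one_block_ext i w (by have h' : (i.2 : ℕ) < k := i.2.isLt; simp [w]; omega)
          subst this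
          simp
      · show x w * (0 : F) = y i
        rw [hy0]; simp
    exact (Submodule.finrank_mono hle).trans ((finrank_span_le_card _).trans (by simp))
  refine occ_of H U ⟨?_, ?_, ?_⟩ hU hN fun j => ?_
  · simp only [H]; rw [Matrix.fromBlocks_transpose, Matrix.fromBlocks_smul]; simp
  · intro _ p
    rcases p with p | p <;> rfl
  · exact isUnit_iff_exists.2 ⟨Matrix.fromBlocks 0 (-1) 1 0,
      by simp [H, Matrix.fromBlocks_multiply, Matrix.fromBlocks_one],
      by simp [H, Matrix.fromBlocks_multiply, Matrix.fromBlocks_one]⟩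
  · have hcard : Fintype.card (JI d ⊕ JI d) = 2 * k := by simp [d]; ring
    let e : JI d ⊕ JI d ≃ Fin (2 * k) := Fintype.equivFinOfCardEq hcard
    have hrank : 2 * k - 1 ≤ (U - 1).rank := by
      have h := LinearMap.finrank_range_add_finrank_ker (U - 1).mulVecLin
      rw [Module.finrank_pi, hcard] at h
      unfold Matrix.rank
      omega
    have hN' : IsNilpotent (Matrix.reindex e e (U - 1)) := hN.map (Matrix.reindexAlgEquiv F F e)
    rw [← rank_reindex_pow e, rank_pow_of_single (by omega) hN'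
      (by rw [← pow_one (Matrix.reindex e e (U - 1)), rank_reindex_pow, pow_one]; exact hrank)]
    simp

/-- Assembling: an admissible multiset of sizes occurs. -/
theorem occ_of_even {ε : F} (hε : ε * ε = 1) (good : ℕ → Prop) (hgood : ∀ j, good j → 1 ≤ j → Occ F ε {j}) :
    ∀ μ : Multiset ℕ, (∀ j ∈ μ, 1 ≤ j) → (∀ j, ¬ good j → Even (μ.count j)) → Occ F ε μ := by
  classical
  intro μ
  induction μ using Multiset.strongInductionOn with
  | _ μ ih =>
    intro hpos heven
    rcases μ.empty_or_exists_mem with rfl | ⟨j, hj⟩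
    · exact occ_zero ε
    obtain ⟨ν, rfl⟩ := Multiset.exists_cons_of_mem hj
    by_cases hgj : good j
    · rw [← Multiset.singleton_add]
      refine (hgood j hgj (hpos j hj)).add (ih ν (Multiset.lt_cons_self ν j)
        (fun i hi => hpos i (Multiset.mem_cons_of_mem hi)) fun i hi => ?_)
      have := heven i hi
      rwa [Multiset.count_cons_of_ne (by rintro rfl; exact hi hgj)] at this
    · have hc := heven j hgj
      rw [Multiset.count_cons_self] at hc
      have hmem : j ∈ ν := by
        rw [← Multiset.one_le_count_iff_mem]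
        rcases hc with ⟨c, hc⟩
        omega
      obtain ⟨ρ, rfl⟩ := Multiset.exists_cons_of_mem hmem
      rw [show (j ::ₘ j ::ₘ ρ) = {j, j} + ρ by simp]
      refine (occ_pair (hpos j hj) hε).add (ih ρ ((Multiset.lt_cons_self ρ j).trans (Multiset.lt_cons_self _ j))
        (fun i hi => hpos i (Multiset.mem_cons_of_mem (Multiset.mem_cons_of_mem hi))) fun i hi => ?_)
      have := heven i hi
      rw [Multiset.count_cons, Multiset.count_cons] at this
      split_ifs at this
      · rwa [add_assoc, Nat.even_add, iff_true_intro (by norm_num : Even (1 + 1)), iff_true] at this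
      · simpa using this

/-- An occurring type gives an invariant form for its Jordan matrix. -/
theorem exists_form_of_occ {ε : F} {t : ℕ} {d : Fin t → ℕ} (hd : ∀ k, 1 ≤ d k)
    (h : Occ F ε ((Finset.univ : Finset (Fin t)).val.map d)) :
    ∃ H : Matrix (JI d) (JI d) F, IsForm ε H ∧
      (1 + shiftMat d F)ᵀ * H * (1 + shiftMat d F) = H := by
  obtain ⟨n, H, U, hH, hU, hN, hr⟩ := h
  have hr' : ∀ k, ((U - 1) ^ k).rank = ∑ i, (d i - k) := fun k => by
    rw [hr, Multiset.map_map]; rfl
  have hn : n = Fintype.card (JI d) := by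
    have := hr' 0
    rw [pow_zero, Matrix.rank_one, Fintype.card_fin] at this
    simpa using this
  let e : JI d ≃ Fin n := Fintype.equivFinOfCardEq hn.symm
  have hc : IsConj (Matrix.reindex e e (shiftMat d F)) (U - 1) := by
    refine isConj_of_rank ((isNilpotent_shiftMat hd).map (Matrix.reindexAlgEquiv F F e)) hN fun k => ?_
    rw [rank_reindex_pow, rank_shiftMat_pow hd, hr']
  have hc' := (isConj_one_add_iff _ _).2 hc
  rw [add_sub_cancel, ← reindex_jordan] at hc'
  obtain ⟨c, hc'⟩ := hc'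
  set J := Matrix.reindex e e (Cfsg.jordanTypeMatrix d F)
  have hcJ : (c : Matrix (Fin n) (Fin n) F) * J = U * c := hc'
  set G := (c : Matrix (Fin n) (Fin n) F)ᵀ * H * (c : Matrix (Fin n) (Fin n) F)
  have hG : IsForm ε G := hH.congr c.isUnit
  have hJ : Jᵀ * G * J = G := by
    simp only [G]
    calc Jᵀ * ((c : Matrix (Fin n) (Fin n) F)ᵀ * H * c) * J
        = ((c : Matrix (Fin n) (Fin n) F) * J)ᵀ * H * ((c : Matrix (Fin n) (Fin n) F) * J) := by
          rw [Matrix.transpose_mul]; simp only [mul_assoc]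
      _ = (c : Matrix (Fin n) (Fin n) F)ᵀ * (Uᵀ * H * U) * c := by
          rw [hcJ, Matrix.transpose_mul]; simp only [mul_assoc]
      _ = _ := by rw [hU]
  refine ⟨Matrix.reindex e.symm e.symm G, hG.reindex e.symm, ?_⟩
  have := isometry_reindex e.symm hJ
  have h2 : Matrix.reindex e.symm e.symm J = Cfsg.jordanTypeMatrix d F := by
    ext i j; simp [J]
  rw [h2] at this
  rw [← jordanTypeMatrix_eq]
  exact this

/-- Transport of an invariant form back to the Jordan matrix. -/
theorem exists_form_of_isConj {ε : F} {t : ℕ} {d : Fin t → ℕ} {ι : Type*} [Fintype ι] [DecidableEq ι]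
    (e : JI d ≃ ι) {A H : Matrix ι ι F} (hH : IsForm ε H) (hA : Aᵀ * H * A = H)
    (hc : IsConj (Matrix.reindex e e (Cfsg.jordanTypeMatrix d F)) A) :
    ∃ G : Matrix (JI d) (JI d) F, IsForm ε G ∧ (1 + shiftMat d F)ᵀ * G * (1 + shiftMat d F) = G := by
  obtain ⟨c, hc⟩ := hc
  set J := Matrix.reindex e e (Cfsg.jordanTypeMatrix d F)
  have hcJ : (c : Matrix ι ι F) * J = A * c := hc
  set G := (c : Matrix ι ι F)ᵀ * H * (c : Matrix ι ι F)
  have hG : IsForm ε G := hH.congr c.isUnit
  have hJ : Jᵀ * G * J = G := by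
    simp only [G]
    calc Jᵀ * ((c : Matrix ι ι F)ᵀ * H * c) * J
        = ((c : Matrix ι ι F) * J)ᵀ * H * ((c : Matrix ι ι F) * J) := by
          rw [Matrix.transpose_mul]; simp only [mul_assoc]
      _ = (c : Matrix ι ι F)ᵀ * (Aᵀ * H * A) * c := by
          rw [hcJ, Matrix.transpose_mul]; simp only [mul_assoc]
      _ = _ := by rw [hA]
  refine ⟨Matrix.reindex e.symm e.symm G, hG.reindex e.symm, ?_⟩
  have := isometry_reindex e.symm hJ
  have h2 : Matrix.reindex e.symm e.symm J = Cfsg.jordanTypeMatrix d F := by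
    ext i j; simp [J]
  rw [h2] at this
  rw [← jordanTypeMatrix_eq]
  exact this

end CfsgLib.UnipotentForms
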