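import Cfsg.Agent.CharTwo.SympInvolution

/-!
The Gauss sum of the split quadratic form in characteristic two and its restriction to the fixed space of
an isometric involution.
-/

set_option autoImplicit false

namespace CfsgLib.UnipotentForms.OrthTwoCent

open Finset Matrix CfsgLib.CharTwo

variable {F : Type*} [Field F] [CharP F 2] {m : ℕ}

local notation "Vec" => (Fin m ⊕ Fin m → F)

theorem polar_plus' (u v : Vec) :
    Cfsg.quadFormPlus m F (u + v) =
      Cfsg.quadFormPlus m F u + Cfsg.quadFormPlus m F v + sympBil m F u v := by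
  rw [sympBil_apply, Cfsg.sympForm]
  simp only [Cfsg.quadFormPlus, Pi.add_apply, dotProduct, Matrix.mulVec, Matrix.J, Fintype.sum_sum_type,
    Matrix.fromBlocks_apply₁₁, Matrix.fromBlocks_apply₁₂, Matrix.fromBlocks_apply₂₁, Matrix.fromBlocks_apply₂₂,
    Matrix.zero_apply, Matrix.neg_apply, Matrix.one_apply, CharTwo.neg_eq, ite_mul, one_mul, zero_mul,
    Finset.sum_ite_eq, Finset.mem_univ, if_true, Finset.sum_const_zero, zero_add, add_zero]
  simp only [← Finset.sum_add_distrib]
  exact Finset.sum_congr rfl fun i _ => by ring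

theorem quad_smul (c : F) (v : Vec) :
    Cfsg.quadFormPlus m F (c • v) = c * c * Cfsg.quadFormPlus m F v := by
  simp only [Cfsg.quadFormPlus, Pi.smul_apply, smul_eq_mul, Finset.mul_sum]
  exact Finset.sum_congr rfl fun i _ => by ring

theorem symm (u v : Vec) : sympBil m F u v = sympBil m F v u := by
  rw [sympBil_swap v u, CharTwo.neg_eq]

variable (F) in
/-- The additive map `c ↦ c² + c`. -/
def wp : F →+ F := AddMonoidHom.mk' (fun c => c * c + c) fun a b => by
  linear_combination CharTwo.add_self_eq_zero (a * b)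

theorem wp_apply (c : F) : wp F c = c * c + c := rfl

variable [Fintype F]

theorem index_wp : (wp F).range.index = 2 := by
  classical
  have hker : Nat.card (wp F).ker = 2 := by
    have he : ((wp F).ker : Set F) = {0, 1} := by
      ext c
      simp only [SetLike.mem_coe, AddMonoidHom.mem_ker, wp_apply, Set.mem_insert_iff, Set.mem_singleton_iff]
      constructor
      · intro h
        rcases mul_eq_zero.1 (show c * (c + 1) = 0 by linear_combination h) with h0 | h1
        · exact Or.inl h0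
        · exact Or.inr (by rw [CharTwo.add_eq_zero] at h1; exact h1)
      · rintro (rfl | rfl)
        · simp
        · rw [mul_one, CharTwo.add_self_eq_zero]
    rw [← SetLike.coe_sort_coe, he, Nat.card_eq_fintype_card]
    simp
  have h1 := AddSubgroup.card_mul_index (wp F).ker
  rw [hker, AddSubgroup.index_ker] at h1
  have h2 := AddSubgroup.card_mul_index (wp F).range
  rw [← h1, mul_comm 2] at h2
  exact Nat.eq_of_mul_eq_mul_left Nat.card_pos h2

open Classical in
/-- The sign character with kernel `{c² + c}`. -/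
noncomputable def psi (a : F) : ℤ := if a ∈ (wp F).range then 1 else -1

theorem psi_add (a b : F) : psi (a + b) = psi a * psi b := by
  classical
  have h := AddSubgroup.add_mem_iff_of_index_two (index_wp (F := F)) (a := a) (b := b)
  simp only [psi]
  by_cases ha : a ∈ (wp F).range <;> by_cases hb : b ∈ (wp F).range <;> simp [ha, hb, h]

theorem psi_zero : psi (0 : F) = 1 := by simp [psi]

theorem psi_mul_self (a : F) : psi a * psi a = 1 := by
  rw [← psi_add, CharTwo.add_self_eq_zero, psi_zero]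

theorem psi_sq (c : F) : psi (c * c) = psi c := by
  have h : psi (c * c + c) = 1 := if_pos ⟨c, rfl⟩
  calc psi (c * c) = psi (c * c + c + c) := by rw [add_assoc, CharTwo.add_self_eq_zero, add_zero]
    _ = psi c := by rw [psi_add, h, one_mul]

theorem psi_eq_one_iff (a : F) : psi a = 1 ↔ a ∈ (wp F).range := by
  classical
  simp only [psi]; split_ifs with h <;> simp [h]

theorem exists_psi_neg : ∃ z : F, psi z = -1 := by
  classical
  by_contra h
  have htop : (wp F).range = ⊤ := by
    ext z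
    simp only [AddSubgroup.mem_top, iff_true]
    by_contra hz
    exact h ⟨z, if_neg hz⟩
  have := index_wp (F := F)
  rw [htop, AddSubgroup.index_top] at this
  omega

theorem sum_psi_eq_zero {G : Type*} [AddCommGroup G] [Fintype G] (φ : G → F)
    (hφ : ∀ u v, φ (u + v) = φ u + φ v) (h : ∃ v, psi (φ v) = -1) : ∑ v, psi (φ v) = 0 := by
  obtain ⟨v0, hv0⟩ := h
  have h1 : ∑ v, psi (φ v) = ∑ v, psi (φ (v0 + v)) :=
    (Fintype.sum_equiv (Equiv.addLeft v0) _ _ fun v => rfl).symm
  simp only [hφ, psi_add, hv0, ← Finset.mul_sum] at h1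
  omega

/-- The Gauss sum of the split form. -/
theorem sum_psi_quad : ∑ v : Vec, psi (Cfsg.quadFormPlus m F v) = (Fintype.card F : ℤ) ^ m := by
  classical
  rw [← Equiv.sum_comp (Equiv.sumArrowEquivProdArrow (Fin m) (Fin m) F).symm, Fintype.sum_prod_type,
    Finset.sum_eq_single (0 : Fin m → F)]
  · simp [Cfsg.quadFormPlus, psi_zero]
  · intro x _ hx
    refine sum_psi_eq_zero (fun y => Cfsg.quadFormPlus m F ((Equiv.sumArrowEquivProdArrow (Fin m) (Fin m) F).symm (x, y)))
      (fun u v => by simp [Cfsg.quadFormPlus, mul_add, Finset.sum_add_distrib]) ?_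
    obtain ⟨i, hi⟩ := Function.ne_iff.1 hx
    obtain ⟨z, hz⟩ := exists_psi_neg (F := F)
    refine ⟨Pi.single i (z / x i), ?_⟩
    convert hz using 2
    have hi' : x i ≠ 0 := hi
    simp [Cfsg.quadFormPlus, Pi.single_apply]
    field_simp
  · simp

/-- A similitude shift of the split form of the same type has singular parameter up to `c² + c`. -/
theorem mem_wp_of_equiv (g : Vec ≃ Vec) (a : Vec)
    (h : ∀ v, Cfsg.quadFormPlus m F (g v) =
      Cfsg.quadFormPlus m F v + sympBil m F a v * sympBil m F a v) :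
    Cfsg.quadFormPlus m F a ∈ (wp F).range := by
  classical
  rw [← psi_eq_one_iff]
  have h1 : ∑ v, psi (Cfsg.quadFormPlus m F (g v)) = (Fintype.card F : ℤ) ^ m := by
    rw [Equiv.sum_comp g fun v => psi (Cfsg.quadFormPlus m F v), sum_psi_quad]
  have key : ∀ v, psi (Cfsg.quadFormPlus m F (g v)) =
      psi (Cfsg.quadFormPlus m F a) * psi (Cfsg.quadFormPlus m F (a + v)) := fun v => by
    rw [h, psi_add, psi_sq, polar_plus', psi_add, psi_add]
    linear_combination -(psi (Cfsg.quadFormPlus m F v) * psi (sympBil m F a v)) *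
      psi_mul_self (Cfsg.quadFormPlus m F a)
  simp only [key, ← Finset.mul_sum] at h1
  rw [Fintype.sum_equiv (Equiv.addLeft a) (fun v => psi (Cfsg.quadFormPlus m F (a + v)))
    (fun v => psi (Cfsg.quadFormPlus m F v)) (fun v => rfl), sum_psi_quad] at h1
  have h0 : (Fintype.card F : ℤ) ^ m ≠ 0 := pow_ne_zero _ (by exact_mod_cast Fintype.card_ne_zero)
  exact mul_right_cancel₀ h0 (h1.trans (one_mul _).symm)

variable (X : Matrix (Fin m ⊕ Fin m) (Fin m ⊕ Fin m) F)

omit [Fintype F] in
theorem sympBil_pres (hQ : ∀ v, Cfsg.quadFormPlus m F (X *ᵥ v) = Cfsg.quadFormPlus m F v) (u v : Vec) :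
    sympBil m F (X *ᵥ u) (X *ᵥ v) = sympBil m F u v := by
  have h1 := polar_plus' (X *ᵥ u) (X *ᵥ v)
  rw [← Matrix.mulVec_add, hQ, hQ, hQ] at h1
  exact (add_left_cancel ((polar_plus' u v).symm.trans h1)).symm

omit [Fintype F] in
theorem quad_disp (hQ : ∀ v, Cfsg.quadFormPlus m F (X *ᵥ v) = Cfsg.quadFormPlus m F v) (v : Vec) :
    Cfsg.quadFormPlus m F ((X - 1) *ᵥ v) = sympBil m F v ((X - 1) *ᵥ v) := by
  have h1 := polar_plus' v ((X - 1) *ᵥ v)
  rw [show v + (X - 1) *ᵥ v = X *ᵥ v by rw [Matrix.sub_mulVec, Matrix.one_mulVec, add_sub_cancel], hQ] at h1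
  linear_combination (-1 : F) * h1 - CharTwo.add_self_eq_zero (sympBil m F v ((X - 1) *ᵥ v))

variable (hQ : ∀ v, Cfsg.quadFormPlus m F (X *ᵥ v) = Cfsg.quadFormPlus m F v) (hX : X * X = 1)

include hQ hX

omit [Fintype F] in
theorem disp_adjoint (u v : Vec) :
    sympBil m F ((X - 1) *ᵥ u) v = sympBil m F u ((X - 1) *ᵥ v) :=
  (exists_induced X (sympBil_pres X hQ) hX).1 u v

omit [Fintype F] hQ in
theorem disp_disp (u : Vec) : (X - 1) *ᵥ ((X - 1) *ᵥ u) = 0 := by
  rw [Matrix.mulVec_mulVec, sub_mul, mul_sub, mul_sub, hX, one_mul, mul_one, one_mul]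
  rw [show (1 - X - (X - 1) : Matrix (Fin m ⊕ Fin m) (Fin m ⊕ Fin m) F) = 0 by
    ext i j
    simp only [Matrix.sub_apply, Matrix.zero_apply, CharTwo.sub_eq_add]
    linear_combination CharTwo.add_self_eq_zero ((1 : Matrix (Fin m ⊕ Fin m) (Fin m ⊕ Fin m) F) i j) +
      CharTwo.add_self_eq_zero (X i j), Matrix.zero_mulVec]

omit [Fintype F] in
theorem quad_disp_add (u v : Vec) :
    Cfsg.quadFormPlus m F ((X - 1) *ᵥ (u + v)) =
      Cfsg.quadFormPlus m F ((X - 1) *ᵥ u) + Cfsg.quadFormPlus m F ((X - 1) *ᵥ v) := by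
  rw [Matrix.mulVec_add, polar_plus', disp_adjoint X hQ hX, disp_disp X hX, map_zero, add_zero]

open Classical in
/-- The character sum over the fixed space, through the sum over the displacement. -/
theorem sum_fixed_mul :
    (Fintype.card F : ℤ) ^ (2 * m) *
        ∑ v ∈ Finset.univ.filter (fun v : Vec => (X - 1) *ᵥ v = 0), psi (Cfsg.quadFormPlus m F v) =
      (Fintype.card F : ℤ) ^ m * ∑ w : Vec, psi (Cfsg.quadFormPlus m F ((X - 1) *ᵥ w)) := by
  have inner : ∀ v : Vec, ∑ w : Vec, psi (sympBil m F ((X - 1) *ᵥ v) w) =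
      if (X - 1) *ᵥ v = 0 then (Fintype.card F : ℤ) ^ (2 * m) else 0 := by
    intro v
    split_ifs with hv
    · simp [hv, psi_zero, two_mul]
    · refine sum_psi_eq_zero _ (fun u w => map_add _ u w) ?_
      obtain ⟨w, hw⟩ : ∃ w, sympBil m F ((X - 1) *ᵥ v) w ≠ 0 := by
        by_contra h
        exact hv (sympBil_nondeg _ fun w => not_not.1 fun hw => h ⟨w, hw⟩)
      obtain ⟨z, hz⟩ := exists_psi_neg (F := F)
      exact ⟨(z / sympBil m F ((X - 1) *ᵥ v) w) • w, by
        rw [map_smul, smul_eq_mul, div_mul_cancel₀ _ hw, hz]⟩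
  have outer : ∀ w : Vec, ∑ v : Vec, psi (Cfsg.quadFormPlus m F v) * psi (sympBil m F ((X - 1) *ᵥ v) w) =
      (Fintype.card F : ℤ) ^ m * psi (Cfsg.quadFormPlus m F ((X - 1) *ᵥ w)) := by
    intro w
    have key : ∀ v, psi (Cfsg.quadFormPlus m F v) * psi (sympBil m F ((X - 1) *ᵥ v) w) =
        psi (Cfsg.quadFormPlus m F ((X - 1) *ᵥ w + v)) * psi (Cfsg.quadFormPlus m F ((X - 1) *ᵥ w)) := by
      intro v
      rw [polar_plus', psi_add, psi_add, disp_adjoint X hQ hX v w, symm ((X - 1) *ᵥ w) v]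
      linear_combination -(psi (Cfsg.quadFormPlus m F v) * psi (sympBil m F v ((X - 1) *ᵥ w))) *
        psi_mul_self (Cfsg.quadFormPlus m F ((X - 1) *ᵥ w))
    simp only [key, ← Finset.sum_mul]
    rw [Fintype.sum_equiv (Equiv.addLeft ((X - 1) *ᵥ w))
      (fun v => psi (Cfsg.quadFormPlus m F ((X - 1) *ᵥ w + v)))
      (fun v => psi (Cfsg.quadFormPlus m F v)) (fun v => rfl), sum_psi_quad]
  rw [Finset.mul_sum, Finset.sum_filter, Finset.mul_sum]
  rw [← Finset.sum_congr rfl fun w _ => outer w, Finset.sum_comm]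
  refine Finset.sum_congr rfl fun v _ => ?_
  rw [← Finset.mul_sum, inner]
  split_ifs <;> ring

open Classical in
/-- The character sum over the fixed space when the form vanishes on the displacement. -/
theorem sum_fixed_alt (halt : ∀ w, Cfsg.quadFormPlus m F ((X - 1) *ᵥ w) = 0) :
    ∑ v ∈ Finset.univ.filter (fun v : Vec => (X - 1) *ᵥ v = 0), psi (Cfsg.quadFormPlus m F v) =
      (Fintype.card F : ℤ) ^ m := by
  have h := sum_fixed_mul X hQ hX
  simp only [halt, psi_zero, Finset.sum_const, Finset.card_univ, nsmul_eq_mul, mul_one] at h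
  rw [Fintype.card_fun, Fintype.card_sum, Fintype.card_fin, ← two_mul, Nat.cast_pow] at h
  refine mul_left_cancel₀ (pow_ne_zero (2 * m) (by exact_mod_cast Fintype.card_ne_zero : (Fintype.card F : ℤ) ≠ 0)) ?_
  rw [h, mul_comm]

open Classical in
/-- The character sum over the fixed space otherwise. -/
theorem sum_fixed_nonalt (hna : ∃ w, Cfsg.quadFormPlus m F ((X - 1) *ᵥ w) ≠ 0) :
    ∑ v ∈ Finset.univ.filter (fun v : Vec => (X - 1) *ᵥ v = 0), psi (Cfsg.quadFormPlus m F v) = 0 := by
  have h := sum_fixed_mul X hQ hX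
  rw [sum_psi_eq_zero _ (quad_disp_add X hQ hX) (by
    obtain ⟨w, hw⟩ := hna
    obtain ⟨z, hz⟩ := exists_psi_neg (F := F)
    haveI : Fact (Nat.Prime 2) := ⟨Nat.prime_two⟩
    refine ⟨(frobeniusEquiv F 2).symm (z / Cfsg.quadFormPlus m F ((X - 1) *ᵥ w)) • w, ?_⟩
    rw [Matrix.mulVec_smul, quad_smul, ← pow_two, frobeniusEquiv_symm_pow_p (R := F) 2,
      div_mul_cancel₀ _ hw, hz]), mul_zero] at h
  exact (mul_eq_zero.1 h).resolve_left (pow_ne_zero _ (by exact_mod_cast Fintype.card_ne_zero))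

end CfsgLib.UnipotentForms.OrthTwoCent
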