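import Cfsg.Agent.UnipotentForms.InvolutionCentralizer

/-!
The centralizer of an involution of a symplectic group in characteristic two, for an arbitrary
involutory symmetric induced form.
-/

set_option autoImplicit false

namespace CfsgLib.UnipotentForms.CharTwoCent

open Finset Matrix

variable {F : Type*} [Field F] {s r : ℕ}

/-- The square zero part attached to the induced form `H`. -/
def nlF (H : Matrix (Fin s) (Fin s) F) (r : ℕ) : Matrix (Idx s r) (Idx s r) F :=
  Matrix.fromBlocks (Matrix.fromBlocks 0 H 0 0) 0 0 0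

/-- Isometries of the form `H`. -/
abbrev OrthForm (H : Matrix (Fin s) (Fin s) F) : Type _ := {R : Matrix (Fin s) (Fin s) F // Rᵀ * H * R = H}

/-- The centralizer in adapted coordinates. -/
def centSetF (H : Matrix (Fin s) (Fin s) F) (r : ℕ) : Set (Matrix (Idx s r) (Idx s r) F) :=
  {g | gᵀ * om F s r * g = om F s r ∧ g * nlF H r = nlF H r * g}

/-- The parametrisation of the centralizer. -/
def eltF (H R : Matrix (Fin s) (Fin s) F) (Y : Matrix (Fin r ⊕ Fin r) (Fin r ⊕ Fin r) F)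
    (T : Matrix (Fin r ⊕ Fin r) (Fin s) F) (σ : Matrix (Fin s) (Fin s) F) : Matrix (Idx s r) (Idx s r) F :=
  Matrix.fromBlocks (Matrix.fromBlocks (H * R * H) (H * R * H * (upper (Tᵀ * Matrix.J (Fin r) F * T) + σ)) 0 R)
    (Matrix.fromRows (H * R * H * (Tᵀ * Matrix.J (Fin r) F * Y)) 0) (Matrix.fromCols 0 T) Y

theorem eltF_mem [CharP F 2] {H : Matrix (Fin s) (Fin s) F} (hHT : Hᵀ = H) (hH : H * H = 1) (R : OrthForm H) {Y : Matrix (Fin r ⊕ Fin r) (Fin r ⊕ Fin r) F}
    (hY : Yᵀ * Matrix.J (Fin r) F * Y = Matrix.J (Fin r) F) (T : Matrix (Fin r ⊕ Fin r) (Fin s) F)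
    (σ : SymMat F s) : eltF H R.1 Y T σ.1 ∈ centSetF H r := by
  obtain ⟨R, hR₀⟩ := R
  obtain ⟨σ, hσ⟩ := σ
  have hP : (H * R * H)ᵀ * R = 1 := by
    calc (H * R * H)ᵀ * R = H * (Rᵀ * H * R) := by
          simp only [Matrix.transpose_mul, hHT, Matrix.mul_assoc]
      _ = 1 := by rw [hR₀, hH]
  have hP' : Rᵀ * (H * R * H) = 1 := by
    rw [← Matrix.mul_assoc, ← Matrix.mul_assoc, hR₀, hH]
  have hcomm : H * R * H * H = H * R := by rw [Matrix.mul_assoc (H * R), hH, Matrix.mul_one]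
  refine ⟨?_, ?_⟩
  · have hA := upper_add_transpose (A := Tᵀ * Matrix.J (Fin r) F * T)
      (by rw [Matrix.transpose_mul, Matrix.transpose_mul, Matrix.transpose_transpose, transpose_J, Matrix.mul_assoc]) (diag_congr_J T)
    set K := upper (Tᵀ * Matrix.J (Fin r) F * T)
    simp only [eltF, om, Matrix.fromBlocks_transpose, Matrix.transpose_fromRows, Matrix.transpose_fromCols,
      Matrix.fromBlocks_multiply, Matrix.fromCols_mul_fromBlocks, Matrix.fromBlocks_mul_fromRows,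
      Matrix.fromCols_mul_fromRows, Matrix.fromRows_mul, Matrix.mul_fromCols, Matrix.transpose_zero,
      Matrix.zero_mul, Matrix.mul_zero, Matrix.mul_one, Matrix.one_mul, add_zero, zero_add]
    simp only [Matrix.transpose_mul, Matrix.transpose_add, Matrix.transpose_transpose, transpose_J, hσ]
    have h1 : ∀ X : Matrix (Fin s) (Fin s) F, Rᵀ * (H * (R * (H * X))) = X := fun X => by
      simp only [← Matrix.mul_assoc] at hP' ⊢
      rw [hP', Matrix.one_mul]
    have h2 : ∀ X : Matrix (Fin s) (Fin r ⊕ Fin r) F, Rᵀ * (H * (R * (H * X))) = X := fun X => by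
      simp only [← Matrix.mul_assoc] at hP' ⊢
      rw [hP', Matrix.one_mul]
    have h3 : Rᵀ * (H * (R * H)) = 1 := by simpa [Matrix.mul_assoc] using hP'
    have h4 : H * (Rᵀ * (H * R)) = 1 := by simpa [Matrix.transpose_mul, hHT, Matrix.mul_assoc] using hP
    have hY' : Yᵀ * (Matrix.J (Fin r) F * Y) = Matrix.J (Fin r) F := by rw [← Matrix.mul_assoc, hY]
    simp only [hY, hY', hHT, Matrix.mul_assoc, h1, h2, h3, h4, Matrix.mul_one]
    refine Matrix.fromBlocks_inj.2 ⟨?_, ?_, ?_, rfl⟩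
    · ext (i | i) (j | j) <;> simp
      have := congrFun (congrFun hA i) j
      simp only [K, Matrix.add_apply, Matrix.transpose_apply, Matrix.mul_assoc] at this
      linear_combination CharTwo.add_self_eq_zero (σ i j) +
        CharTwo.add_self_eq_zero ((Tᵀ * (Matrix.J (Fin r) F * T)) i j) + this
    · ext (i | i) j <;> simp [CharTwo.add_self_eq_zero]
    · ext i (j | j) <;> simp [CharTwo.add_self_eq_zero]
  · simp only [eltF, nlF, Matrix.fromBlocks_multiply, Matrix.fromCols_mul_fromBlocks, Matrix.fromBlocks_mul_fromRows, Matrix.zero_mul, Matrix.mul_zero, add_zero, zero_add, Matrix.mul_one, Matrix.one_mul]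
    simp [Matrix.fromRows_zero, Matrix.fromCols_zero, hcomm]

theorem exists_eltF_of_mem [CharP F 2] {H : Matrix (Fin s) (Fin s) F} (hH : H * H = 1)
    {g : Matrix (Idx s r) (Idx s r) F} (hg : g ∈ centSetF H r) :
    ∃ (R : OrthForm H) (Y : Matrix (Fin r ⊕ Fin r) (Fin r ⊕ Fin r) F) (T : Matrix (Fin r ⊕ Fin r) (Fin s) F)
      (σ : SymMat F s), Yᵀ * Matrix.J (Fin r) F * Y = Matrix.J (Fin r) F ∧ eltF H R.1 Y T σ.1 = g := by
  obtain ⟨hiso, hcomm⟩ := hg
  obtain ⟨G11, G12, G21, Y, rfl⟩ : ∃ a b c d, Matrix.fromBlocks a b c d = g :=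
    ⟨_, _, _, _, g.fromBlocks_toBlocks⟩
  obtain ⟨P, Z, U, R, rfl⟩ : ∃ a b c d, Matrix.fromBlocks a b c d = G11 :=
    ⟨_, _, _, _, G11.fromBlocks_toBlocks⟩
  obtain ⟨X, X', rfl⟩ : ∃ a b, Matrix.fromRows a b = G12 := ⟨_, _, Matrix.fromRows_toRows G12⟩
  obtain ⟨T', T, rfl⟩ : ∃ a b, Matrix.fromCols a b = G21 := ⟨_, _, Matrix.fromCols_toCols G21⟩
  simp only [nlF, Matrix.fromBlocks_multiply, Matrix.fromCols_mul_fromBlocks, Matrix.fromBlocks_mul_fromRows,
    Matrix.zero_mul, Matrix.mul_zero, Matrix.mul_one, Matrix.one_mul, add_zero, zero_add,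
    Matrix.fromBlocks_inj] at hcomm
  obtain ⟨⟨hU, hPR, -, -⟩, hX', hT', -⟩ := hcomm
  have hU0 : U = 0 := by
    rw [← Matrix.one_mul U, ← hH, Matrix.mul_assoc, ← hU, Matrix.mul_zero]
  have hX'0 : X' = 0 := by
    have h0 : H * X' = 0 := by
      ext i j
      simpa using (congrFun (congrFun hX' (Sum.inl i)) j).symm
    rw [← Matrix.one_mul X', ← hH, Matrix.mul_assoc, h0, Matrix.mul_zero]
  have hT'0 : T' = 0 := by
    have h0 : T' * H = 0 := by
      ext i j
      simpa using congrFun (congrFun hT' i) (Sum.inr j)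
    rw [← Matrix.mul_one T', ← hH, ← Matrix.mul_assoc, h0, Matrix.zero_mul]
  have hP0 : P = H * R * H := by
    rw [← hPR, Matrix.mul_assoc, hH, Matrix.mul_one]
  subst hU0 hX'0 hT'0
  simp only [om, Matrix.fromBlocks_transpose, Matrix.transpose_fromRows, Matrix.transpose_fromCols,
    Matrix.fromBlocks_multiply, Matrix.fromCols_mul_fromBlocks, Matrix.fromBlocks_mul_fromRows,
    Matrix.fromCols_mul_fromRows, Matrix.fromRows_mul, Matrix.mul_fromCols, Matrix.transpose_zero,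
    Matrix.zero_mul, Matrix.mul_zero, Matrix.mul_one, Matrix.one_mul, add_zero, zero_add,
    Matrix.fromBlocks_inj] at hiso
  obtain ⟨h11, h12, -, hY⟩ := hiso
  have hR : Pᵀ * R = 1 := by
    ext i j
    simpa [Matrix.one_apply] using congrFun (congrFun h11 (Sum.inl i)) (Sum.inr j)
  have hR2 : P * Rᵀ = 1 := by
    have := congrArg Matrix.transpose hR
    rw [Matrix.transpose_mul, Matrix.transpose_transpose, Matrix.transpose_one] at this
    exact mul_eq_one_comm.1 this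
  have hRH : Rᵀ * H * R = H := by
    have h := mul_eq_one_comm.1 hR2
    rw [hP0, ← Matrix.mul_assoc, ← Matrix.mul_assoc] at h
    calc Rᵀ * H * R = Rᵀ * H * R * (H * H) := by rw [hH, Matrix.mul_one]
      _ = H := by rw [← Matrix.mul_assoc, h, Matrix.one_mul]
  have hX : X = P * (Tᵀ * Matrix.J (Fin r) F * Y) := by
    have h : Rᵀ * X + Tᵀ * Matrix.J (Fin r) F * Y = 0 := by
      ext i j
      simpa using congrFun (congrFun h12 (Sum.inr i)) j
    have h' : Rᵀ * X = Tᵀ * Matrix.J (Fin r) F * Y := by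
      rw [← add_left_inj (Tᵀ * Matrix.J (Fin r) F * Y), h, fromBlocks_add_self']
    rw [← h', ← Matrix.mul_assoc, hR2, Matrix.one_mul]
  set K := upper (Tᵀ * Matrix.J (Fin r) F * T) with hK
  have hA := upper_add_transpose (A := Tᵀ * Matrix.J (Fin r) F * T)
    (by rw [Matrix.transpose_mul, Matrix.transpose_mul, Matrix.transpose_transpose, transpose_J, Matrix.mul_assoc])
    (diag_congr_J T)
  rw [← hK] at hA
  have hσ : (Rᵀ * Z + K)ᵀ = Rᵀ * Z + K := by
    ext i j
    have e := congrFun (congrFun h11 (Sum.inr i)) (Sum.inr j)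
    simp at e
    have a := congrFun (congrFun hA i) j
    simp only [Matrix.add_apply, Matrix.transpose_apply] at a
    have hz : (Rᵀ * Z) j i = (Zᵀ * R) i j := by
      rw [← Matrix.transpose_apply (Rᵀ * Z) i j, Matrix.transpose_mul, Matrix.transpose_transpose]
    simp only [Matrix.add_apply, Matrix.transpose_apply]
    rw [hz]
    simp only [Matrix.mul_assoc] at e a
    linear_combination e + a - CharTwo.add_self_eq_zero ((Rᵀ * Z) i j + K i j)
  refine ⟨⟨R, hRH⟩, Y, T, ⟨Rᵀ * Z + K, hσ⟩, ?_, ?_⟩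
  · simpa [Matrix.mul_assoc] using hY
  · simp only [eltF, ← hP0, ← hK, ← hX]
    rw [show K + (Rᵀ * Z + K) = Rᵀ * Z by
      ext i j; simp only [Matrix.add_apply]; linear_combination CharTwo.add_self_eq_zero (K i j),
      ← Matrix.mul_assoc, hR2, Matrix.one_mul]

theorem eltF_inj {H : Matrix (Fin s) (Fin s) F} (hHT : Hᵀ = H) (hH : H * H = 1) {R R' : OrthForm H} {Y Y' : Matrix (Fin r ⊕ Fin r) (Fin r ⊕ Fin r) F}
    {T T' : Matrix (Fin r ⊕ Fin r) (Fin s) F} {σ σ' : Matrix (Fin s) (Fin s) F}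
    (h : eltF H R.1 Y T σ = eltF H R'.1 Y' T' σ') : R = R' ∧ Y = Y' ∧ T = T' ∧ σ = σ' := by
  simp only [eltF, Matrix.fromBlocks_inj] at h
  obtain ⟨⟨-, hZ, -, hR⟩, -, hT, hY⟩ := h
  have hT' : T = T' := by
    ext i j
    simpa using congrFun (congrFun hT i) (Sum.inr j)
  subst hY hT'
  rw [← Subtype.ext hR] at hZ
  have hP' : R.1ᵀ * (H * R.1 * H) = 1 := by
    rw [← Matrix.mul_assoc, ← Matrix.mul_assoc, R.2, hH]
  have h1 := congrArg (fun X => R.1ᵀ * X) hZ
  simp only [← Matrix.mul_assoc] at h1 hP'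
  simp only [hP', Matrix.one_mul] at h1
  exact ⟨Subtype.ext hR, rfl, rfl, add_left_cancel h1⟩

theorem natCard_centSetF [Fintype F] [CharP F 2] {H : Matrix (Fin s) (Fin s) F} (hHT : Hᵀ = H)
    (hH : H * H = 1) :
    Nat.card (centSetF H r) = Nat.card (OrthForm H) * Nat.card (Matrix.symplecticGroup (Fin r) F) *
      Fintype.card F ^ (2 * r * s) * Fintype.card F ^ (s + 1).choose 2 := by
  classical
  have h1 : Nat.card (Matrix (Fin r ⊕ Fin r) (Fin s) F) = Fintype.card F ^ (2 * r * s) := by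
    rw [Nat.card_eq_fintype_card]
    show Fintype.card (Fin r ⊕ Fin r → Fin s → F) = _
    rw [Fintype.card_fun, Fintype.card_fun, ← pow_mul, Fintype.card_sum, Fintype.card_fin, Fintype.card_fin]
    congr 1; ring
  rw [← natCard_symMat, ← h1, ← Nat.card_prod, ← Nat.card_prod, ← Nat.card_prod]
  refine (Nat.card_eq_of_bijective (fun x : ((OrthForm H × Matrix.symplecticGroup (Fin r) F) ×
      Matrix (Fin r ⊕ Fin r) (Fin s) F) × SymMat F s =>
    (⟨eltF H x.1.1.1.1 x.1.1.2.1 x.1.2 x.2.1,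
      eltF_mem hHT hH x.1.1.1 (SymplecticGroup.mem_iff'.1 x.1.1.2.2) x.1.2 x.2⟩ : centSetF H r)) ⟨?_, ?_⟩).symm
  · rintro ⟨⟨⟨R, Y⟩, T⟩, σ⟩ ⟨⟨⟨R', Y'⟩, T'⟩, σ'⟩ h
    obtain ⟨hR, hY, hT, hσ⟩ := eltF_inj hHT hH (congrArg Subtype.val h)
    simp only at hR hY hT hσ
    rw [hR, Subtype.ext hY, hT, Subtype.ext hσ]
  · rintro ⟨g, hg⟩
    obtain ⟨R, Y, T, σ, hY, rfl⟩ := exists_eltF_of_mem hH hg
    exact ⟨(((R, ⟨Y, SymplecticGroup.mem_iff'.2 hY⟩), T), σ), rfl⟩

/-- The standard involution. -/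
theorem exists_modelF [CharP F 2] {H : Matrix (Fin s) (Fin s) F} (hHT : Hᵀ = H) :
    ∃ t : Matrix.symplecticGroup (Fin (s + r)) F,
      Matrix.reindex (idxEquiv s r) (idxEquiv s r) (t : Matrix (Fin (s + r) ⊕ Fin (s + r)) (Fin (s + r) ⊕ Fin (s + r)) F)
        = 1 + nlF H r := by
  set φ := Matrix.reindexAlgEquiv F F (idxEquiv s r)
  have hφ : ∀ A, φ A = Matrix.reindex (idxEquiv s r) (idxEquiv s r) A := fun A => rfl
  refine ⟨⟨φ.symm (1 + nlF H r), ?_⟩, φ.apply_symm_apply _⟩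
  rw [SymplecticGroup.mem_iff']
  apply φ.injective
  have ht : ∀ A, φ Aᵀ = (φ A)ᵀ := fun A => by rw [hφ, hφ, Matrix.transpose_reindex]
  rw [map_mul, map_mul, ht, φ.apply_symm_apply, hφ, reindex_J]
  simp only [nlF, om, hHT, ← Matrix.fromBlocks_one, Matrix.fromBlocks_add, Matrix.fromBlocks_transpose,
    Matrix.fromBlocks_multiply, Matrix.transpose_one, Matrix.transpose_zero, Matrix.zero_mul, Matrix.mul_zero,
    Matrix.mul_one, Matrix.one_mul, add_zero, zero_add, fromBlocks_add_self', Matrix.transpose_add]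
  simp [Matrix.fromBlocks_one]

theorem natCard_centralizerF [Fintype F] [CharP F 2] {H : Matrix (Fin s) (Fin s) F} (t : Matrix.symplecticGroup (Fin (s + r)) F)
    (ht : Matrix.reindex (idxEquiv s r) (idxEquiv s r) (t : Matrix (Fin (s + r) ⊕ Fin (s + r)) (Fin (s + r) ⊕ Fin (s + r)) F)
        = 1 + nlF H r) :
    Nat.card (Subgroup.centralizer ({t} : Set (Matrix.symplecticGroup (Fin (s + r)) F))) = Nat.card (centSetF H r) := by
  set φ := Matrix.reindexAlgEquiv F F (idxEquiv s r)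
  have hφ : ∀ A, φ A = Matrix.reindex (idxEquiv s r) (idxEquiv s r) A := fun A => rfl
  have htr : ∀ A, φ Aᵀ = (φ A)ᵀ := fun A => by rw [hφ, hφ, Matrix.transpose_reindex]
  have hmem : ∀ x : Matrix (Fin (s + r) ⊕ Fin (s + r)) (Fin (s + r) ⊕ Fin (s + r)) F,
      φ x ∈ centSetF H r ↔ x ∈ Matrix.symplecticGroup (Fin (s + r)) F ∧
        (t : Matrix (Fin (s + r) ⊕ Fin (s + r)) (Fin (s + r) ⊕ Fin (s + r)) F) * x = x * t := by
    intro x
    refine and_congr ?_ ?_
    · rw [SymplecticGroup.mem_iff', ← φ.injective.eq_iff, map_mul, map_mul, htr, hφ (Matrix.J _ _), reindex_J]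
    · rw [← φ.injective.eq_iff, map_mul, map_mul, hφ (t : Matrix _ _ F), ht, add_mul, mul_add, one_mul, mul_one,
        add_right_inj]
      exact eq_comm
  refine Nat.card_congr
    { toFun := fun g => ⟨φ (g.1 : Matrix (Fin (s + r) ⊕ Fin (s + r)) (Fin (s + r) ⊕ Fin (s + r)) F),
        (hmem _).2 ⟨g.1.2, congrArg Subtype.val (Subgroup.mem_centralizer_iff.1 g.2 t rfl)⟩⟩
      invFun := fun x =>
        have h : φ (φ.symm x.1) ∈ centSetF H r := by rw [φ.apply_symm_apply]; exact x.2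
        ⟨⟨φ.symm x.1, ((hmem _).1 h).1⟩, Subgroup.mem_centralizer_iff.2 fun y hy => by
          rw [Set.mem_singleton_iff.1 hy]
          exact Subtype.ext ((hmem _).1 h).2⟩
      left_inv := fun g => Subtype.ext (Subtype.ext (φ.symm_apply_apply _))
      right_inv := fun x => Subtype.ext (φ.apply_symm_apply _) }

theorem rank_nlF {H : Matrix (Fin s) (Fin s) F} (hH : H * H = 1) : (nlF H r).rank = s := by
  classical
  have h : nlF H r = Matrix.fromBlocks (Matrix.fromBlocks H 0 0 1) 0 0 1 * nl F s r := by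
    simp [nlF, nl, Matrix.fromBlocks_multiply]
  rw [h, Matrix.rank_mul_eq_right_of_isUnit_det, rank_nl]
  refine (Matrix.isUnit_iff_isUnit_det _).1 (isUnit_iff_exists.2 ⟨Matrix.fromBlocks (Matrix.fromBlocks H 0 0 1) 0 0 1, ?_, ?_⟩) <;>
    simp [Matrix.fromBlocks_multiply, hH, Matrix.fromBlocks_one]

end CfsgLib.UnipotentForms.CharTwoCent
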