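import Cfsg.Agent.UnipotentJordan.Commutant
import Cfsg.Agent.CharTwo.AlternatingForm

/-!
A form invariant under a unipotent matrix of given Jordan type restricts the multiplicities of the
block sizes.
-/

set_option autoImplicit false

namespace CfsgLib.UnipotentForms

open Finset Matrix CfsgLib.UnipotentJordan

variable {F : Type*} [Field F] {t : ℕ} {d : Fin t → ℕ}

theorem transpose_shiftMat_mul_apply (a : Matrix (JI d) (JI d) F) (p r : JI d) :
    ((shiftMat d F)ᵀ * a) p r = ent d a p.1 ((p.2 : ℕ) + 1) r.1 r.2 := by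
  rw [← Matrix.transpose_transpose a, ← Matrix.transpose_mul, Matrix.transpose_apply, mul_shiftMat_apply]
  unfold ent
  by_cases h : (p.2 : ℕ) + 1 < d p.1
  · rw [dif_pos ⟨r.2.isLt, h⟩, dif_pos ⟨h, r.2.isLt⟩]; rfl
  · rw [dif_neg (fun h' => h h'.2), dif_neg (fun h' => h h'.1)]

variable {H : Matrix (JI d) (JI d) F}
  (hinv : (1 + shiftMat d F)ᵀ * H * (1 + shiftMat d F) = H)
include hinv

/-- The recurrence satisfied by the entries of an invariant form. -/
theorem recurrence (l k : Fin t) (a b : ℕ) :
    ent d H l (a + 1) k b + ent d H l a k (b + 1) + ent d H l (a + 1) k (b + 1) = 0 := by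
  by_cases ha : a < d l
  swap
  · rw [ent_eq_zero H (by omega), ent_eq_zero H (by omega), ent_eq_zero H (by omega)]; simp
  by_cases hb : b < d k
  swap
  · rw [ent_eq_zero H (by omega), ent_eq_zero H (by omega), ent_eq_zero H (by omega)]; simp
  have h := congrFun (congrFun hinv (⟨l, ⟨a, ha⟩⟩ : JI d)) (⟨k, ⟨b, hb⟩⟩ : JI d)
  rw [Matrix.transpose_add, Matrix.transpose_one, add_mul, one_mul, mul_add, mul_one, add_mul] at h
  simp only [Matrix.add_apply] at h
  rw [transpose_shiftMat_mul_apply, mul_shiftMat_apply] at h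
  have h2 : ((shiftMat d F)ᵀ * H * shiftMat d F) (⟨l, ⟨a, ha⟩⟩ : JI d) (⟨k, ⟨b, hb⟩⟩ : JI d) =
      ent d H l (a + 1) k (b + 1) := by
    rw [mul_shiftMat_apply]
    by_cases hb1 : b + 1 < d k
    · rw [ent, dif_pos ⟨ha, hb1⟩, transpose_shiftMat_mul_apply]
    · rw [ent_eq_zero _ (by simp; omega), ent_eq_zero _ (by simp; omega)]
  rw [h2] at h
  linear_combination h

theorem ent_eq_zero_of_le (l k : Fin t) : ∀ b a : ℕ, d l ≤ a + b → ent d H l a k b = 0
  | 0, a, h => ent_eq_zero H (by omega)
  | b + 1, a, h => by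
    suffices ∀ n a, d l ≤ a + (b + 1) → d l ≤ a + n → ent d H l a k (b + 1) = 0 from
      this (d l) a h (by omega)
    intro n
    induction n with
    | zero => intro a _ h0; exact ent_eq_zero H (by omega)
    | succ n ih =>
      intro a h1 h2
      have hr := recurrence hinv l k a b
      rw [ent_eq_zero_of_le l k b (a + 1) (by omega), ih (a + 1) (by omega) (by omega)] at hr
      simpa using hr

theorem ent_eq_pow (l k : Fin t) : ∀ b a : ℕ, a + b + 1 = d l →
    ent d H l a k b = (-1) ^ b * ent d H l (a + b) k 0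
  | 0, a, _ => by simp
  | b + 1, a, h => by
    have hr := recurrence hinv l k a b
    rw [ent_eq_zero_of_le hinv l k (b + 1) (a + 1) (by omega), add_zero,
      ent_eq_pow l k b (a + 1) (by omega), show a + 1 + b = a + (b + 1) by omega] at hr
    rw [pow_succ]
    linear_combination hr

omit hinv in
/-- The entries `H(e_{l,0}, e_{k,d_k-1})`. -/
def corner (d : Fin t → ℕ) (H : Matrix (JI d) (JI d) F) : Matrix (Fin t) (Fin t) F :=
  Matrix.of fun l k => ent d H l 0 k (d k - 1)

theorem det_corner_ne_zero (hd : ∀ k, 1 ≤ d k) (hH : IsUnit H) : (corner d H).det ≠ 0 := by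
  intro h0
  obtain ⟨c, hc, hcz⟩ := Matrix.exists_mulVec_eq_zero_iff.2 h0
  let y : JI d → F := fun p => if (p.2 : ℕ) = d p.1 - 1 then c p.1 else 0
  have hy : H *ᵥ y = 0 := by
    funext ⟨l, a⟩
    have hz := congrFun hcz l
    rw [Matrix.mulVec, dotProduct, ← Finset.univ_sigma_univ, Finset.sum_sigma]
    rw [Matrix.mulVec, dotProduct] at hz
    have hk : ∀ k : Fin t, (∑ x : Fin (d k), H ⟨l, a⟩ ⟨k, x⟩ * y ⟨k, x⟩) =
        ent d H l a k (d k - 1) * c k := by
      intro k
      have hlt : d k - 1 < d k := by have := hd k; omega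
      rw [Finset.sum_eq_single (⟨d k - 1, hlt⟩ : Fin (d k))]
      · simp only [y, if_true]
        rw [ent, dif_pos ⟨a.isLt, hlt⟩]
      · intro x _ hx
        simp only [y]
        rw [if_neg (fun e => hx (Fin.ext e)), mul_zero]
      · simp
    rw [Finset.sum_congr rfl fun k _ => hk k]
    by_cases ha : (a : ℕ) = 0
    · rw [ha]; exact hz
    · refine Finset.sum_eq_zero fun k _ => ?_
      have hdk := hd k
      have hr := recurrence hinv l k ((a : ℕ) - 1) (d k - 1)
      rw [show (a : ℕ) - 1 + 1 = a by omega, show d k - 1 + 1 = d k by omega,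
        ent_eq_zero H (show ¬ ((a : ℕ) - 1 < d l ∧ d k < d k) by omega),
        ent_eq_zero H (show ¬ ((a : ℕ) < d l ∧ d k < d k) by omega), add_zero, add_zero] at hr
      rw [hr, zero_mul]
  obtain ⟨G, hG⟩ := hH.exists_left_inv
  have hy0 : y = 0 := by
    have := congrArg (fun v => G *ᵥ v) hy
    simpa [Matrix.mulVec_mulVec, hG] using this
  refine hc (funext fun k => ?_)
  have := congrFun hy0 ⟨k, ⟨d k - 1, by have := hd k; omega⟩⟩
  simpa [y] using this

/-- Sizes on which the induced form is alternating occur an even number of times. -/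
theorem even_count (hd : ∀ k, 1 ≤ d k) {ε : F} (hε : Hᵀ = ε • H) (hH : IsUnit H) {j : ℕ} (hj : 1 ≤ j)
    (hskew : ε * (-1) ^ (j - 1) = -1) (hzero : (2 : F) ≠ 0 ∨ (Odd j ∧ ∀ p, H p p = 0)) :
    Even (Finset.univ.filter fun k => d k = j).card := by
  classical
  have hswap : ∀ l k, d l = j → d k = j → corner d H l k = -corner d H k l := by
    intro l k hl hk
    simp only [corner, Matrix.of_apply]
    rw [ent_eq_pow hinv l k (d k - 1) 0 (by omega), zero_add]
    have he : ent d H l (d k - 1) k 0 = ε * ent d H k 0 l (d l - 1) := by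
      rw [ent, dif_pos ⟨by omega, by omega⟩, ent, dif_pos ⟨by omega, by omega⟩]
      have := congrFun (congrFun hε (⟨l, ⟨d k - 1, by omega⟩⟩ : JI d)) (⟨k, ⟨0, by omega⟩⟩ : JI d)
      rw [Matrix.transpose_apply, Matrix.smul_apply, smul_eq_mul] at this
      have hidx : (⟨l, ⟨d k - 1, by omega⟩⟩ : JI d) = ⟨l, ⟨d l - 1, by omega⟩⟩ := by simp; omega
      have he2 : ε * ε = 1 := by
        have h1 : ((-1 : F) ^ (j - 1)) * (-1) ^ (j - 1) = 1 := by
          rw [← mul_pow, neg_one_mul, neg_neg, one_pow]
        linear_combination (ε * (-1) ^ (j - 1) - 1) * hskew - ε * ε * h1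
      rw [hidx] at this ⊢
      rw [this, ← mul_assoc, he2, one_mul]
    rw [he, show d k - 1 = j - 1 by omega]
    linear_combination (ent d H k 0 l (d l - 1)) * hskew
  have hdiag : ∀ k, d k = j → corner d H k k = 0 := by
    intro k hk
    rcases hzero with h2 | ⟨⟨i, hi⟩, hdg⟩
    · have := hswap k k hk hk
      have h2' : (2 : F) * corner d H k k = 0 := by linear_combination this
      exact (mul_eq_zero.1 h2').resolve_left h2
    · simp only [corner, Matrix.of_apply]
      rw [ent_eq_pow hinv k k (d k - 1) 0 (by omega), zero_add]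
      have h1 := ent_eq_pow hinv k k i i (by omega)
      rw [show ent d H k i k i = 0 by
        rw [ent, dif_pos ⟨by omega, by omega⟩]; exact hdg _, show i + i = d k - 1 by omega] at h1
      rw [(mul_eq_zero.1 h1.symm).resolve_left (pow_ne_zero _ (neg_ne_zero.2 one_ne_zero)), mul_zero]
  by_cases hex : ∃ k, d k = j
  swap
  · rw [Finset.filter_false_of_mem (fun k _ h => hex ⟨k, h⟩)]; simp
  have htri : (corner d H)ᵀ.BlockTriangular d := by
    intro a b hab
    show ent d H b 0 a (d a - 1) = 0
    exact ent_eq_zero_of_le hinv b a _ _ (by omega)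
  have hdet := det_corner_ne_zero hinv hd hH
  rw [← Matrix.det_transpose, htri.det, Finset.prod_ne_zero_iff] at hdet
  have hB : ((corner d H)ᵀ.toSquareBlock d j).det ≠ 0 := by
    obtain ⟨k, hk⟩ := hex
    exact hdet j (Finset.mem_image.2 ⟨k, Finset.mem_univ k, hk⟩)
  set B := (corner d H)ᵀ.toSquareBlock d j
  have hanti : ∀ x y, B x y = -B y x := fun x y => hswap y.1 x.1 y.2 x.2
  have halt : ∀ v : {k // d k = j} → F, Matrix.toBilin' B v v = 0 := by
    intro v
    rw [Matrix.toBilin'_apply]
    have hsum : ∀ s : Finset {k // d k = j}, ∑ x ∈ s, ∑ y ∈ s, v x * B x y * v y = 0 := by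
      intro s
      induction s using Finset.induction_on with
      | empty => simp
      | insert z s hz ih =>
        simp only [Finset.sum_insert hz, Finset.sum_add_distrib, ih, add_zero]
        rw [show B z z = 0 from hdiag z.1 z.2, mul_zero, zero_mul, zero_add, ← Finset.sum_add_distrib]
        refine Finset.sum_eq_zero fun x _ => ?_
        rw [hanti x z]; ring
    exact hsum _
  have hnd : ∀ v, (∀ w, Matrix.toBilin' B v w = 0) → v = 0 := fun v hv =>
    ((LinearMap.BilinForm.nondegenerate_toBilin'_iff_det_ne_zero.2 hB).1 v hv)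
  have := CfsgLib.CharTwo.even_finrank_of_isAlt _ (Matrix.toBilin' B) rfl halt hnd
  rwa [Module.finrank_pi, Fintype.card_subtype] at this

end CfsgLib.UnipotentForms
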