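import Cfsg.Agent.UnipotentForms.InvolutionCentralizerForm

/-!
Isometry counts for the alternating form and for the identity form in even dimension, characteristic two.
-/

set_option autoImplicit false

namespace CfsgLib.UnipotentForms.CharTwoCent

open Finset Matrix

variable {F : Type*} [Field F]

/-- Congruent forms have equally many isometries. -/
theorem natCard_orth_congr {ι κ : Type*} [Fintype ι] [Fintype κ] [DecidableEq ι] [DecidableEq κ]
    (A : Matrix ι ι F) (B : Matrix κ κ F) (P : Matrix ι κ F) (Q : Matrix κ ι F) (hPQ : P * Q = 1)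
    (hQP : Q * P = 1) (h : Pᵀ * A * P = B) :
    Nat.card {X : Matrix ι ι F // Xᵀ * A * X = A} = Nat.card {X : Matrix κ κ F // Xᵀ * B * X = B} := by
  have hA : Qᵀ * B * Q = A := by
    calc Qᵀ * B * Q = (P * Q)ᵀ * A * (P * Q) := by rw [← h]; simp only [Matrix.transpose_mul, Matrix.mul_assoc]
      _ = A := by rw [hPQ, Matrix.transpose_one, Matrix.one_mul, Matrix.mul_one]
  refine Nat.card_congr
    { toFun := fun X => ⟨Q * X.1 * P, ?_⟩
      invFun := fun X => ⟨P * X.1 * Q, ?_⟩
      left_inv := fun X => Subtype.ext ?_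
      right_inv := fun X => Subtype.ext ?_ }
  · calc (Q * X.1 * P)ᵀ * B * (Q * X.1 * P) = Pᵀ * (X.1ᵀ * (Qᵀ * B * Q) * X.1) * P := by
          simp only [Matrix.transpose_mul, Matrix.mul_assoc]
      _ = B := by rw [hA, X.2, h]
  · calc (P * X.1 * Q)ᵀ * A * (P * X.1 * Q) = Qᵀ * (X.1ᵀ * (Pᵀ * A * P) * X.1) * Q := by
          simp only [Matrix.transpose_mul, Matrix.mul_assoc]
      _ = A := by rw [h, X.2, hA]
  · calc P * (Q * X.1 * P) * Q = (P * Q) * X.1 * (P * Q) := by simp only [Matrix.mul_assoc]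
      _ = X.1 := by rw [hPQ, Matrix.one_mul, Matrix.mul_one]
  · calc Q * (P * X.1 * Q) * P = (Q * P) * X.1 * (Q * P) := by simp only [Matrix.mul_assoc]
      _ = X.1 := by rw [hQP, Matrix.one_mul, Matrix.mul_one]

variable (F) in
/-- The alternating induced form. -/
def altH (k : ℕ) : Matrix (Fin (k + k)) (Fin (k + k)) F :=
  Matrix.reindex finSumFinEquiv finSumFinEquiv (Matrix.J (Fin k) F)

theorem altH_transpose [CharP F 2] (k : ℕ) : (altH F k)ᵀ = altH F k := by
  rw [altH, Matrix.transpose_reindex, transpose_J]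

theorem altH_mul_self [CharP F 2] (k : ℕ) : altH F k * altH F k = 1 := by
  rw [altH, Matrix.reindex_apply, Matrix.submatrix_mul_equiv, Matrix.J_squared, neg_eq_self',
    Matrix.submatrix_one_equiv]

theorem natCard_orthForm_altH [Fintype F] (k : ℕ) :
    Nat.card (OrthForm (altH F k)) = Nat.card (Matrix.symplecticGroup (Fin k) F) := by
  classical
  set e := (finSumFinEquiv (m := k) (n := k))
  refine Eq.trans (natCard_orth_congr (altH F k) (Matrix.J (Fin k) F)
    ((1 : Matrix (Fin (k + k)) (Fin (k + k)) F).submatrix id e)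
    ((1 : Matrix (Fin (k + k)) (Fin (k + k)) F).submatrix e id) ?_ ?_ ?_) ?_
  · rw [Matrix.submatrix_mul_equiv, Matrix.one_mul, Matrix.submatrix_id_id]
  · rw [← Matrix.submatrix_mul _ _ _ _ _ Function.bijective_id, Matrix.one_mul,
      Matrix.submatrix_one_equiv]
  · rw [altH, Matrix.transpose_submatrix, Matrix.transpose_one]
    ext i j
    simp [Matrix.mul_apply, Matrix.one_apply, e]
  · exact Nat.card_congr (Equiv.subtypeEquivRight fun X => SymplecticGroup.mem_iff'.symm)

theorem exists_sqrt [Finite F] [CharP F 2] (d : F) : ∃ e, e * e = d :=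
  haveI : Fact (Nat.Prime 2) := ⟨Nat.prime_two⟩
  ⟨(frobeniusEquiv F 2).symm d, by rw [← pow_two]; exact frobeniusEquiv_symm_pow_p (R := F) 2 d⟩

theorem diag_two [CharP F 2] {ι : Type*} (b : Matrix (Fin 2) ι F) (j : ι) :
    (bᵀ * (!![1, 1; 1, 0] : Matrix (Fin 2) (Fin 2) F) * b) j j = b 0 j * b 0 j := by
  simp [Matrix.mul_apply, Fin.sum_univ_two]
  linear_combination CharTwo.add_self_eq_zero (b 0 j * b 1 j)

theorem natCard_orthId_even [Fintype F] [CharP F 2] (k : ℕ) :
    Nat.card (OrthId F (2 * k + 2)) =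
      Fintype.card F ^ (2 * k + 1) * Nat.card (Matrix.symplecticGroup (Fin k) F) := by
  classical
  let M₂ : Matrix (Fin 2) (Fin 2) F := !![1, 1; 1, 0]
  let M : Matrix (Fin 2 ⊕ (Fin k ⊕ Fin k)) (Fin 2 ⊕ (Fin k ⊕ Fin k)) F :=
    Matrix.fromBlocks M₂ 0 0 (Matrix.J (Fin k) F)
  have hM₂T : M₂ᵀ = M₂ := by ext i j; fin_cases i <;> fin_cases j <;> rfl
  have hMT : Mᵀ = M := by simp [M, Matrix.fromBlocks_transpose, neg_eq_self', hM₂T]
  have hM₂ : M₂ * !![0, 1; 1, 1] = 1 ∧ (!![0, 1; 1, 1] : Matrix (Fin 2) (Fin 2) F) * M₂ = 1 := by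
    constructor <;> ext i j <;> fin_cases i <;> fin_cases j <;>
      simp [M₂, Matrix.mul_apply, Fin.sum_univ_two, CharTwo.add_self_eq_zero]
  have hMu : IsUnit M := isUnit_iff_exists.2 ⟨Matrix.fromBlocks !![0, 1; 1, 1] 0 0 (Matrix.J (Fin k) F),
    by simp [M, Matrix.fromBlocks_multiply, Matrix.J_squared, neg_eq_self', Matrix.fromBlocks_one, hM₂.1],
    by simp [M, Matrix.fromBlocks_multiply, Matrix.J_squared, neg_eq_self', Matrix.fromBlocks_one, hM₂.2]⟩
  obtain ⟨E, hE⟩ := CfsgLib.CharTwo.orthonormal_basis_aux exists_sqrt (2 * k + 2) (Matrix.toLinearMap₂' F M)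
    (by rw [Module.finrank_pi]; simp; ring)
    (fun x y => by
      simp only [Matrix.toLinearMap₂'_apply']
      rw [dotProduct_comm, ← Matrix.vecMul_transpose, hMT, Matrix.dotProduct_mulVec])
    (fun x hx => (LinearMap.BilinForm.nondegenerate_toBilin'_iff_det_ne_zero.2
      ((Matrix.isUnit_iff_isUnit_det _).1 hMu).ne_zero).1 x hx)
    (Or.inr ⟨Pi.single (Sum.inl 0) 1, by
      simp [Matrix.toLinearMap₂'_apply', Matrix.mulVec_single_one, M, M₂]⟩)
  set P := LinearMap.toMatrix' E.toLinearMap with hP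
  set Q := LinearMap.toMatrix' E.symm.toLinearMap with hQ
  have hPM : Pᵀ * M * P = 1 := by
    have h : (Matrix.toLinearMap₂' F M).compl₁₂ E.toLinearMap E.toLinearMap =
        Matrix.toLinearMap₂' F (1 : Matrix (Fin (2 * k + 2)) (Fin (2 * k + 2)) F) := by
      refine LinearMap.ext₂ fun a c => ?_
      rw [LinearMap.compl₁₂_apply, LinearEquiv.coe_coe, hE]
      simp [Matrix.toLinearMap₂'_apply', dotProduct]
    have h' := congrArg (LinearMap.toMatrix₂' F) h
    rwa [LinearMap.toMatrix₂'_compl₁₂, LinearMap.toMatrix'_toLinearMap₂', LinearMap.toMatrix'_toLinearMap₂'] at h'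
  have h1 : Nat.card {R : Matrix (Fin (2 * k + 2)) (Fin (2 * k + 2)) F // Rᵀ * 1 * R = 1} =
      Nat.card {X // Xᵀ * M * X = M} :=
    (natCard_orth_congr M 1 P Q (by rw [hP, hQ, ← LinearMap.toMatrix'_comp]; simp)
      (by rw [hP, hQ, ← LinearMap.toMatrix'_comp]; simp) hPM).symm
  rw [show Nat.card (OrthId F (2 * k + 2)) =
      Nat.card {R : Matrix (Fin (2 * k + 2)) (Fin (2 * k + 2)) F // Rᵀ * 1 * R = 1} from
    Nat.card_congr (Equiv.subtypeEquivRight fun R => by rw [Matrix.mul_one]), h1]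
  let mk : F → (Fin k ⊕ Fin k → F) → Matrix (Fin k ⊕ Fin k) (Fin k ⊕ Fin k) F →
      Matrix (Fin 2 ⊕ (Fin k ⊕ Fin k)) (Fin 2 ⊕ (Fin k ⊕ Fin k)) F := fun β u Y =>
    Matrix.fromBlocks !![1, 0; β, 1] (Matrix.of ![0, u ᵥ* (Matrix.J (Fin k) F * Y)])
      (Matrix.of fun i => ![u i, 0]) Y
  have hmk : ∀ β u (Y : Matrix.symplecticGroup (Fin k) F), (mk β u Y.1)ᵀ * M * mk β u Y.1 = M := by
    intro β u Y
    have hY := SymplecticGroup.mem_iff'.1 Y.2
    simp only [mk, M, Matrix.fromBlocks_transpose, Matrix.fromBlocks_multiply, Matrix.mul_zero,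
      Matrix.zero_mul, add_zero, zero_add, Matrix.fromBlocks_inj]
    set c : Matrix (Fin k ⊕ Fin k) (Fin 2) F := Matrix.of fun i => ![u i, 0] with hc
    set b : Matrix (Fin 2) (Fin k ⊕ Fin k) F := Matrix.of ![0, u ᵥ* (Matrix.J (Fin k) F * Y.1)] with hb
    have hb0 : ∀ j, b 0 j = 0 := fun j => rfl
    have hc1 : ∀ i, c i 1 = 0 := fun i => rfl
    refine ⟨?_, ?_, ?_, ?_⟩
    · have h0 : (cᵀ * Matrix.J (Fin k) F * c) = 0 := by
        ext i j
        fin_cases i <;> fin_cases j
        · exact diag_congr_J c 0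
        · simp [Matrix.mul_apply, hc1]
        · simp [Matrix.mul_apply, hc1]
        · simp [Matrix.mul_apply, hc1]
      rw [h0, add_zero]
      ext i j
      fin_cases i <;> fin_cases j <;>
        simp [M₂, Matrix.mul_apply, Fin.sum_univ_two, CharTwo.add_self_eq_zero, add_assoc]
    · ext i j
      rw [Matrix.mul_assoc cᵀ]
      fin_cases i
      · simp [M₂, hb, hc, Matrix.mul_apply, Fin.sum_univ_two, Matrix.vecMul, dotProduct, CharTwo.add_self_eq_zero]
      · simp [M₂, hb, hc, Matrix.mul_apply, Fin.sum_univ_two]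
    · rw [← Matrix.transpose_inj]
      simp only [Matrix.transpose_add, Matrix.transpose_mul, Matrix.transpose_transpose, transpose_J,
        hM₂T, Matrix.transpose_zero]
      ext i j
      fin_cases i
      · simp [M₂, hb, hc, Matrix.mul_apply, Fin.sum_univ_two, Matrix.vecMul, dotProduct, Finset.mul_sum,
          Finset.sum_mul, mul_assoc, CharTwo.add_self_eq_zero]
      · simp [M₂, hb, hc, Matrix.mul_apply, Fin.sum_univ_two]
    · rw [hY]
      convert zero_add (Matrix.J (Fin k) F) using 2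
      ext i j
      simp [M₂, Matrix.mul_apply, Fin.sum_univ_two, hb0]
  have hcard : Nat.card ((F × (Fin k ⊕ Fin k → F)) × Matrix.symplecticGroup (Fin k) F) =
      Fintype.card F ^ (2 * k + 1) * Nat.card (Matrix.symplecticGroup (Fin k) F) := by
    rw [Nat.card_prod, Nat.card_prod, Nat.card_fun, Nat.card_eq_fintype_card, Nat.card_sum,
      Nat.card_fin, pow_succ', ← two_mul]
  rw [← hcard]
  refine (Nat.card_eq_of_bijective (fun x : (F × (Fin k ⊕ Fin k → F)) × Matrix.symplecticGroup (Fin k) F =>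
    (⟨mk x.1.1 x.1.2 x.2.1, hmk _ _ _⟩ : {X // Xᵀ * M * X = M})) ⟨?_, ?_⟩).symm
  · rintro ⟨⟨β, u⟩, Y⟩ ⟨⟨β', u'⟩, Y'⟩ h
    have h' : mk β u Y.1 = mk β' u' Y'.1 := congrArg Subtype.val h
    simp only [mk, Matrix.fromBlocks_inj] at h'
    obtain ⟨ha, -, hc, hY⟩ := h'
    have hβ : β = β' := by simpa using congrFun (congrFun ha 1) 0
    have hu : u = u' := funext fun i => by simpa using congrFun (congrFun hc i) 0
    rw [hβ, hu, Subtype.ext hY]
  · rintro ⟨X, hX⟩
    obtain ⟨a, b, c, Y, rfl⟩ : ∃ a b c d, Matrix.fromBlocks a b c d = X := ⟨_, _, _, _, X.fromBlocks_toBlocks⟩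
    have hX' := hX
    simp only [M, Matrix.fromBlocks_transpose, Matrix.fromBlocks_multiply, Matrix.zero_mul,
      Matrix.mul_zero, add_zero, zero_add, Matrix.fromBlocks_inj] at hX
    obtain ⟨h11, h12, -, h22⟩ := hX
    have hb0 : ∀ j, b 0 j = 0 := fun j => by
      have h := congrFun (congrFun h22 j) j
      rw [Matrix.add_apply, diag_congr_J, add_zero, show (Matrix.J (Fin k) F) j j = 0 by
        rcases j with j | j <;> simp [Matrix.J], diag_two] at h
      exact mul_self_eq_zero.1 h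
    have hbb : bᵀ * M₂ * b = 0 := by
      ext i j; simp [M₂, Matrix.mul_apply, Fin.sum_univ_two, hb0]
    rw [hbb, zero_add] at h22
    have ha00 : a 0 0 = 1 := by
      have h := congrFun (congrFun h11 0) 0
      rw [Matrix.add_apply, diag_congr_J, add_zero, diag_two] at h
      rcases mul_self_eq_one_iff.1 (h.trans (by rfl)) with h' | h'
      · exact h'
      · rw [h', CharTwo.neg_eq]
    have ha01 : a 0 1 = 0 := by
      have h := congrFun (congrFun h11 1) 1
      rw [Matrix.add_apply, diag_congr_J, add_zero, diag_two] at h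
      exact mul_self_eq_zero.1 (h.trans (by rfl))
    have hc1 : ∀ i, c i 1 = 0 := by
      have hv : (fun i => c i 1) ᵥ* (Matrix.J (Fin k) F * Y) = 0 := by
        funext j
        have h := congrFun (congrFun h12 1) j
        rw [Matrix.mul_assoc cᵀ] at h
        simp [M₂, Matrix.mul_apply, Fin.sum_univ_two, hb0, ha01] at h
        simpa [Matrix.vecMul, dotProduct, Matrix.mul_apply] using h
      have hYu : IsUnit (Matrix.J (Fin k) F * Y) := by
        refine IsUnit.of_mul_eq_one_right (Matrix.J (Fin k) F * Yᵀ) ?_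
        rw [Matrix.mul_assoc (Matrix.J _ F), ← Matrix.mul_assoc Yᵀ, h22, Matrix.J_squared, neg_eq_self']
      intro i
      exact congrFun (Matrix.vecMul_injective_of_isUnit hYu (hv.trans (Matrix.zero_vecMul _).symm)) i
    have ha11 : a 1 1 = 1 := by
      have h := congrFun (congrFun h11 0) 1
      simpa [M₂, Matrix.mul_apply, Fin.sum_univ_two, ha00, ha01, hc1] using h
    have hb1 : ∀ j, b 1 j = ((fun i => c i 0) ᵥ* (Matrix.J (Fin k) F * Y)) j := fun j => by
      have h := congrFun (congrFun h12 0) j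
      rw [Matrix.mul_assoc cᵀ] at h
      simp [M₂, Matrix.mul_apply, Fin.sum_univ_two, hb0, ha00, -Fintype.sum_sum_type] at h
      simp only [Matrix.vecMul, dotProduct, Matrix.mul_apply]
      exact CharTwo.add_eq_zero.1 h
    refine ⟨((a 1 0, fun i => c i 0), ⟨Y, SymplecticGroup.mem_iff'.2 h22⟩), Subtype.ext ?_⟩
    refine Matrix.fromBlocks_inj.2 ⟨?_, ?_, ?_, rfl⟩
    · ext i j; fin_cases i <;> fin_cases j <;> simp [ha00, ha01, ha11]
    · ext i j; fin_cases i <;> simp [hb0, hb1]
    · ext i j; fin_cases j <;> simp [hc1]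

end CfsgLib.UnipotentForms.CharTwoCent
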