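import Cfsg.Agent.UnipotentForms.GaussSum
import Cfsg.Agent.Forms.OrthIndex
import Cfsg.Agent.Dickson.Matrix
import Cfsg.Agent.Spinor.StdForms

/-!
Centralizers of involutions of the split orthogonal groups in characteristic two, compared with their
centralizers in the symplectic group.
-/

set_option autoImplicit false

namespace CfsgLib.UnipotentForms.OrthTwoCent

open Matrix CfsgLib.CharTwo CfsgLib.StdForms CfsgLib.Spinor

variable {F : Type*} [Field F] [CharP F 2] [Fintype F] {m : ℕ}

local notation "Vec" => (Fin m ⊕ Fin m → F)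
local notation "Mat" => Matrix (Fin m ⊕ Fin m) (Fin m ⊕ Fin m) F
/-- The split orthogonal group. -/
abbrev Oq (F : Type*) [Field F] (m : ℕ) : Type _ := ↥(Cfsg.isometryGroup F ⇑(plusQ m F))

theorem quad_pres (g : (Oq F m)) (v : Vec) :
    Cfsg.quadFormPlus m F ((mat (plusQ m F) g) *ᵥ v) = Cfsg.quadFormPlus m F v := by
  rw [← plusQ_apply, ← plusQ_apply, quad_mulVec]

/-- Isometries are symplectic. -/
theorem mem_symplectic (g : (Oq F m)) : mat (plusQ m F) g ∈ Matrix.symplecticGroup (Fin m) F :=
  mem_symplectic_of_preserved _ (sympBil_pres _ (quad_pres g))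

/-- A vector representing a functional. -/
theorem exists_rep (s : Vec) : ∃ a : Vec, ∀ v, sympBil m F a v = ∑ i, s i * v i := by
  refine ⟨Sum.elim (fun i => s (.inr i)) (fun i => s (.inl i)), fun v => ?_⟩
  rw [sympBil_apply, Cfsg.sympForm]
  simp only [dotProduct, Matrix.mulVec, Matrix.J, Fintype.sum_sum_type,
    Matrix.fromBlocks_apply₁₁, Matrix.fromBlocks_apply₁₂, Matrix.fromBlocks_apply₂₁, Matrix.fromBlocks_apply₂₂,
    Matrix.zero_apply, Matrix.neg_apply, Matrix.one_apply, CharTwo.neg_eq, ite_mul, one_mul, zero_mul,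
    Finset.sum_ite_eq, Finset.mem_univ, if_true, Finset.sum_const_zero, zero_add, add_zero,
    Sum.elim_inl, Sum.elim_inr]
  exact add_comm _ _

/-- The transvection shifting the split form by `f(a, ·)²`. -/
theorem exists_shift (a : Vec) (ha : Cfsg.quadFormPlus m F a ∈ (wp F).range) :
    ∃ T : Mat, T ∈ Matrix.symplecticGroup (Fin m) F ∧ T * T = 1 ∧
      (∀ v, Cfsg.quadFormPlus m F (T *ᵥ v) = Cfsg.quadFormPlus m F v + sympBil m F a v * sympBil m F a v) ∧
      (∀ v, sympBil m F a (T *ᵥ v) = sympBil m F a v) ∧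
      (∀ Y : Mat, Y *ᵥ a = a → (∀ v, sympBil m F a (Y *ᵥ v) = sympBil m F a v) → T * Y = Y * T) := by
  classical
  obtain ⟨c, hc⟩ := ha
  rw [wp_apply] at hc
  obtain ⟨l, hl⟩ : ∃ l : F, l * l * Cfsg.quadFormPlus m F a + l = 1 := by
    by_cases h0 : Cfsg.quadFormPlus m F a = 0
    · exact ⟨1, by rw [h0]; ring⟩
    · refine ⟨c / Cfsg.quadFormPlus m F a, ?_⟩
      field_simp
      linear_combination hc
  set T : Mat := 1 + l • Matrix.vecMulVec a (a ᵥ* Matrix.J (Fin m) F) with hTdef
  have hT : ∀ v, T *ᵥ v = v + (l * sympBil m F a v) • a := fun v => by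
    rw [hTdef, Matrix.add_mulVec, Matrix.one_mulVec, Matrix.smul_mulVec, Matrix.vecMulVec_mulVec,
      ← Matrix.dotProduct_mulVec, op_smul_eq_smul, smul_smul, sympBil_apply, Cfsg.sympForm]
  have hfa : ∀ v, sympBil m F a (T *ᵥ v) = sympBil m F a v := fun v => by
    rw [hT, map_add, map_smul, sympBil_self, smul_zero, add_zero]
  refine ⟨T, mem_symplectic_of_preserved T fun u v => ?_, ?_, fun v => ?_, hfa, fun Y hYa hYf => ?_⟩
  · simp only [hT, map_add, map_smul, LinearMap.add_apply, LinearMap.smul_apply, smul_eq_mul, sympBil_self, symm u a]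
    linear_combination CharTwo.add_self_eq_zero (l * sympBil m F a u * sympBil m F a v)
  · refine Matrix.toLin'.injective (LinearMap.ext fun v => ?_)
    simp only [Matrix.toLin'_apply, Matrix.one_mulVec]
    rw [← Matrix.mulVec_mulVec, hT, hfa, hT, add_assoc, ← add_smul, CharTwo.add_self_eq_zero, zero_smul,
      add_zero]
  · rw [hT, polar_plus', quad_smul, map_smul, symm v a, smul_eq_mul]
    linear_combination (sympBil m F a v * sympBil m F a v) * hl
  · refine Matrix.toLin'.injective (LinearMap.ext fun v => ?_)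
    simp only [Matrix.toLin'_apply]
    rw [← Matrix.mulVec_mulVec, ← Matrix.mulVec_mulVec, hT, hT, hYf, Matrix.mulVec_add, Matrix.mulVec_smul, hYa]

variable (x : (Oq F m))

/-- The parameters of the orbit. -/
abbrev Param : Type _ :=
  {a : Vec // (mat (plusQ m F) x - 1) *ᵥ a = 0 ∧ Cfsg.quadFormPlus m F a ∈ (wp F).range}

open Classical in
theorem natCard_param :
    2 * (Nat.card (Param x) : ℤ) =
      (Fintype.card F : ℤ) ^ (Module.finrank F (LinearMap.ker (mat (plusQ m F) x - 1).mulVecLin)) +
        ∑ v ∈ Finset.univ.filter (fun v : Vec => (mat (plusQ m F) x - 1) *ᵥ v = 0),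
          psi (Cfsg.quadFormPlus m F v) := by
  set N := mat (plusQ m F) x - 1
  have hK : (Finset.univ.filter fun v : Vec => N *ᵥ v = 0).card =
      Fintype.card F ^ Module.finrank F (LinearMap.ker N.mulVecLin) := by
    rw [← Fintype.card_subtype]
    exact (Fintype.card_congr (Equiv.subtypeEquivRight fun v => by simp)).trans
      (Module.card_eq_pow_finrank (K := F) (V := LinearMap.ker N.mulVecLin))
  rw [Nat.card_eq_fintype_card, Fintype.card_subtype, ← Finset.filter_filter, ← Nat.cast_pow, ← hK,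
    Finset.card_filter, Nat.cast_sum, Finset.mul_sum, Finset.card_eq_sum_ones, Nat.cast_sum,
    ← Finset.sum_add_distrib]
  refine Finset.sum_congr rfl fun v _ => ?_
  simp only [psi]
  split_ifs <;> norm_num

theorem disp_fixed {a : Vec} (ha : (mat (plusQ m F) x - 1) *ᵥ a = 0) :
    mat (plusQ m F) x *ᵥ a = a := by
  rwa [Matrix.sub_mulVec, Matrix.one_mulVec, sub_eq_zero] at ha

theorem sympBil_fixed (hx : x * x = 1) {a : Vec} (ha : (mat (plusQ m F) x - 1) *ᵥ a = 0) (v : Vec) :
    sympBil m F a (mat (plusQ m F) x *ᵥ v) = sympBil m F a v := by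
  have hX : mat (plusQ m F) x * mat (plusQ m F) x = 1 := by rw [← mat_mul, hx, mat_one]
  have h := disp_adjoint _ (quad_pres x) hX a v
  rw [ha, map_zero, LinearMap.zero_apply, Matrix.sub_mulVec, Matrix.one_mulVec, map_sub, eq_comm, sub_eq_zero] at h
  exact h

/-- The centralizer in the symplectic group is fibred over the parameters. -/
theorem natCard_centralizer_mul (hx : x * x = 1) (x' : Matrix.symplecticGroup (Fin m) F)
    (hx' : (x' : Mat) = mat (plusQ m F) x) :
    Nat.card (Subgroup.centralizer ({x} : Set (Oq F m))) * Nat.card (Param x) =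
      Nat.card (Subgroup.centralizer ({x'} : Set (Matrix.symplecticGroup (Fin m) F))) := by
  classical
  set X := mat (plusQ m F) x with hXdef
  have hX : X * X = 1 := by rw [hXdef, ← mat_mul, hx, mat_one]
  choose T hTs hTT hTQ hTf hTc using fun a : Param x => exists_shift a.1 a.2.2
  have hTX : ∀ a : Param x, T a * X = X * T a := fun a =>
    hTc a X (disp_fixed x a.2.1) (sympBil_fixed x hx a.2.1)
  have hkX : ∀ k : Subgroup.centralizer ({x} : Set (Oq F m)), mat (plusQ m F) k.1 * X = X * mat (plusQ m F) k.1 :=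
    fun k => by rw [hXdef, ← mat_mul, ← mat_mul, Subgroup.mem_centralizer_iff.1 k.2 x rfl]
  rw [← Nat.card_prod]
  refine Nat.card_eq_of_bijective (fun p =>
    (⟨⟨mat (plusQ m F) p.1.1 * T p.2, mul_mem (mem_symplectic p.1.1) (hTs p.2)⟩,
      Subgroup.mem_centralizer_iff.2 fun y hy => by
        rw [Set.mem_singleton_iff.1 hy]
        refine Subtype.ext ?_
        show (x' : Mat) * (mat (plusQ m F) p.1.1 * T p.2) = mat (plusQ m F) p.1.1 * T p.2 * (x' : Mat)
        rw [hx', Matrix.mul_assoc, hTX p.2, ← Matrix.mul_assoc, ← Matrix.mul_assoc, hkX p.1]⟩ :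
      Subgroup.centralizer ({x'} : Set (Matrix.symplecticGroup (Fin m) F)))) ⟨?_, ?_⟩
  · rintro ⟨k, a⟩ ⟨k', a'⟩ h
    have h' : mat (plusQ m F) k.1 * T a = mat (plusQ m F) k'.1 * T a' :=
      congrArg Subtype.val (congrArg Subtype.val h)
    have ha : a = a' := by
      refine Subtype.ext (sub_eq_zero.1 (sympBil_nondeg _ fun v => ?_))
      have h1 := congrArg (fun M : Mat => Cfsg.quadFormPlus m F (M *ᵥ v)) h'
      simp only [← Matrix.mulVec_mulVec, quad_pres, hTQ] at h1
      rw [map_sub, LinearMap.sub_apply, CharTwo.sub_eq_add]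
      refine mul_self_eq_zero.1 ?_
      rw [CharTwo.add_mul_self]
      linear_combination h1 + CharTwo.add_self_eq_zero (sympBil m F (a' : Vec) v * sympBil m F (a' : Vec) v)
    subst ha
    refine Prod.ext (Subtype.ext (mat_ext _ ?_)) rfl
    simpa [Matrix.mul_assoc, hTT] using congrArg (fun M : Mat => M * T a) h'
  · rintro ⟨⟨g, hg⟩, hgc⟩
    have hgX : g * X = X * g := by
      have := congrArg Subtype.val (Subgroup.mem_centralizer_iff.1 hgc x' rfl)
      simp only [Submonoid.coe_mul, Subgroup.coe_mul] at this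
      rw [← hx']
      exact this.symm
    have hgf : ∀ u v, sympBil m F (g *ᵥ u) (g *ᵥ v) = sympBil m F u v := sympBil_preserved ⟨g, hg⟩
    let D : Vec →+ F := AddMonoidHom.mk' (fun v => Cfsg.quadFormPlus m F (g *ᵥ v) + Cfsg.quadFormPlus m F v)
      fun u v => by
        rw [Matrix.mulVec_add, polar_plus', polar_plus', hgf]
        linear_combination CharTwo.add_self_eq_zero (sympBil m F u v)
    choose s hs using fun i => CfsgLib.Forms.exists_sq_eq (F := F) (D (Pi.single i 1))
    obtain ⟨a, ha⟩ := exists_rep s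
    have hD : ∀ v, D v = sympBil m F a v * sympBil m F a v := fun v => by
      rw [ha, CharTwo.sum_mul_self]
      calc D v = D (∑ i, Pi.single i (v i)) := by rw [Finset.univ_sum_single]
        _ = ∑ i, D (Pi.single i (v i)) := map_sum D _ _
        _ = _ := Finset.sum_congr rfl fun i _ => by
            rw [show (Pi.single i (v i) : Vec) = v i • Pi.single i 1 by
              rw [← Pi.single_smul, smul_eq_mul, mul_one]]
            show Cfsg.quadFormPlus m F (g *ᵥ (v i • Pi.single i 1)) + Cfsg.quadFormPlus m F (v i • Pi.single i 1) = _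
            rw [Matrix.mulVec_smul, quad_smul, quad_smul, ← mul_add,
              show Cfsg.quadFormPlus m F (g *ᵥ Pi.single i 1) + Cfsg.quadFormPlus m F (Pi.single i 1) = s i * s i from
                (hs i).symm]
            ring
    have hgQ : ∀ v, Cfsg.quadFormPlus m F (g *ᵥ v) =
        Cfsg.quadFormPlus m F v + sympBil m F a v * sympBil m F a v := fun v => by
      rw [← hD]
      show _ = Cfsg.quadFormPlus m F v + (Cfsg.quadFormPlus m F (g *ᵥ v) + Cfsg.quadFormPlus m F v)
      linear_combination -(CharTwo.add_self_eq_zero (Cfsg.quadFormPlus m F v))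
    have haK : (X - 1) *ᵥ a = 0 := by
      refine sympBil_nondeg _ fun v => ?_
      rw [disp_adjoint X (quad_pres x) hX]
      refine mul_self_eq_zero.1 ((hD _).symm.trans ?_)
      show Cfsg.quadFormPlus m F (g *ᵥ ((X - 1) *ᵥ v)) + Cfsg.quadFormPlus m F ((X - 1) *ᵥ v) = 0
      rw [Matrix.mulVec_mulVec, mul_sub, hgX, mul_one,
        show (X * g - g : Mat) = (X - 1) * g by rw [sub_mul, one_mul],
        ← Matrix.mulVec_mulVec, quad_disp X (quad_pres x), quad_disp X (quad_pres x)]
      have h2 := hgf v ((X - 1) *ᵥ v)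
      rw [Matrix.mulVec_mulVec, mul_sub, hgX, mul_one,
        show (X * g - g : Mat) = (X - 1) * g by rw [sub_mul, one_mul], ← Matrix.mulVec_mulVec] at h2
      rw [h2, CharTwo.add_self_eq_zero]
    have hginj : Function.Bijective (fun v : Vec => g *ᵥ v) := by
      rw [← Finite.injective_iff_bijective]
      intro u v huv
      refine sub_eq_zero.1 (sympBil_nondeg _ fun w => ?_)
      rw [← hgf, Matrix.mulVec_sub, show g *ᵥ u = g *ᵥ v from huv, sub_self, map_zero, LinearMap.zero_apply]
    have hAR : Cfsg.quadFormPlus m F a ∈ (wp F).range :=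
      mem_wp_of_equiv (Equiv.ofBijective _ hginj) a hgQ
    set A : Param x := ⟨a, haK, hAR⟩
    have hk : ∀ v, Cfsg.quadFormPlus m F ((g * T A) *ᵥ v) = Cfsg.quadFormPlus m F v := fun v => by
      rw [← Matrix.mulVec_mulVec, hgQ, hTQ A, hTf A]
      linear_combination CharTwo.add_self_eq_zero (sympBil m F a v * sympBil m F a v)
    obtain ⟨u, hu⟩ : IsUnit (g * T A) := by
      refine Matrix.mulVec_injective_iff_isUnit.1 fun v w h => ?_
      rw [← Matrix.mulVec_mulVec, ← Matrix.mulVec_mulVec] at h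
      have := congrArg (fun z => T A *ᵥ z) (hginj.1 h)
      simpa [Matrix.mulVec_mulVec, hTT] using this
    let k : (Oq F m) := ⟨u, fun v _ => by
      show plusQ m F ((u : Mat) *ᵥ v) = plusQ m F v
      rw [plusQ_apply, plusQ_apply, hu, hk]⟩
    have hkc : k ∈ Subgroup.centralizer ({x} : Set (Oq F m)) := Subgroup.mem_centralizer_iff.2 fun y hy => by
      rw [Set.mem_singleton_iff.1 hy]
      refine mat_ext _ ?_
      rw [mat_mul, mat_mul]
      show X * (u : Mat) = (u : Mat) * X
      rw [hu, Matrix.mul_assoc g, hTX A, ← Matrix.mul_assoc, ← Matrix.mul_assoc, hgX]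
    refine ⟨(⟨k, hkc⟩, A), Subtype.ext (Subtype.ext ?_)⟩
    show (u : Mat) * T A = g
    rw [hu, Matrix.mul_assoc, hTT, Matrix.mul_one]

/-- An isometry stabilising a maximal totally singular subspace is even. -/
theorem even_of_map_lag {W : Submodule F Vec} (hW : CfsgLib.Dickson.IsLag (plusQ m F) m W) :
    ∀ (vs : List Vec) (g : (Oq F m)), IsReflProd (plusQ m F) g vs → ∀ U, CfsgLib.Dickson.IsLag (plusQ m F) m U →
      (Module.finrank F ↥(W ⊓ U.map ((CfsgLib.Dickson.toOrth (plusQ m F) g : Vec ≃ₗ[F] Vec) : Vec →ₗ[F] Vec)) : ZMod 2) =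
        Module.finrank F ↥(W ⊓ U) + vs.length := by
  intro vs
  induction vs with
  | nil =>
    intro g hg U _
    rw [show g = 1 from mat_ext _ hg.2, map_one, List.length_nil, Nat.cast_zero, add_zero,
      show U.map (((1 : CfsgLib.Dickson.orth (plusQ m F)) : Vec ≃ₗ[F] Vec) : Vec →ₗ[F] Vec) = U by
        ext v; simp]
  | cons v vs ih =>
    intro g hg U hU
    have hv := hg.1 v List.mem_cons_self
    set g' := reflIso (plusQ m F) v hv * g
    have hg' : IsReflProd (plusQ m F) g' vs := by
      refine ⟨fun w hw => hg.1 w (List.mem_cons_of_mem _ hw), ?_⟩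
      rw [mat_mul, hg.2, List.map_cons, List.prod_cons, ← mul_assoc, mat_reflIso,
        reflectionMatrix_mul_self _ hv, one_mul]
    obtain ⟨c, hc⟩ := CfsgLib.Dickson.exists_scaled (Q := plusQ m F) hv
    have hgg : CfsgLib.Dickson.toOrth (plusQ m F) g =
        CfsgLib.Dickson.refl (c • v) hc * CfsgLib.Dickson.toOrth (plusQ m F) g' := by
      have hgr : g = reflIso (plusQ m F) v hv * g' := by
        show g = reflIso (plusQ m F) v hv * (reflIso (plusQ m F) v hv * g)
        rw [← mul_assoc, show reflIso (plusQ m F) v hv * reflIso (plusQ m F) v hv = 1 from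
          mat_ext _ (reflectionMatrix_mul_self _ hv), one_mul]
      rw [hgr, map_mul]
      congr 1
      refine Subtype.ext (LinearEquiv.ext fun u => ?_)
      show mat (plusQ m F) (reflIso (plusQ m F) v hv) *ᵥ u = _
      rw [mat_reflIso, reflectionMatrix_mulVec, refl_apply, CfsgLib.Dickson.refl_apply,
        QuadraticMap.polar_smul_left, smul_smul]
      rw [QuadraticMap.map_smul, smul_eq_mul] at hc
      have hcc : c * c = (plusQ m F v)⁻¹ := eq_inv_of_mul_eq_one_left hc
      simp only [smul_eq_mul, QuadraticMap.polar_comm (⇑(plusQ m F)) u v, div_eq_mul_inv, ← hcc,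
        sub_eq_add_neg, ← neg_smul, CharTwo.neg_eq]
      congr 2; ring
    have hU' := hU.map (CfsgLib.Dickson.toOrth (plusQ m F) g')
    have e : U.map ((CfsgLib.Dickson.toOrth (plusQ m F) g : Vec ≃ₗ[F] Vec) : Vec →ₗ[F] Vec) =
        (U.map ((CfsgLib.Dickson.toOrth (plusQ m F) g' : Vec ≃ₗ[F] Vec) : Vec →ₗ[F] Vec)).map
          (((CfsgLib.Dickson.refl (c • v) hc : CfsgLib.Dickson.orth (plusQ m F)) : Vec ≃ₗ[F] Vec) : Vec →ₗ[F] Vec) := by
      rw [hgg, ← Submodule.map_comp]; rfl
    rw [e, CfsgLib.Dickson.finrank_inf_refl (plusQ_nondegenerate m) (by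
        rw [Module.finrank_fintype_fun_eq_card, Fintype.card_sum, Fintype.card_fin]; omega) hW hU' _ hc,
      ih g' hg' U hU, List.length_cons, Nat.cast_add, Nat.cast_one, add_assoc]

end CfsgLib.UnipotentForms.OrthTwoCent
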